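import Groth.Agent.Sga4B.P1Geom441
import Mathlib.AlgebraicGeometry.Morphisms.Etale

/-!
# The local condition at the boundary of a compactification

`GoodAt A p α x`: `x` has an étale neighbourhood with a smooth map to `P¹_T`, `T = Spec A`, for which the open
subscheme `α : Y ⟶ X` is the inverse image of the affine line `v T 1`.
-/

set_option autoImplicit false
universe u
open CategoryTheory CategoryTheory.Limits AlgebraicGeometry Opposite

namespace Groth.Agent.Vancyc.H680.CompactVan

open Groth.Agent.Sga4B.P1Geom

/-- The local condition at a boundary point: an étale neighbourhood with a smooth map to `P¹_T`, for which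
`Y` is the inverse image of the affine line `v T 1`. -/
def GoodAt (A : Type u) [CommRing A] {X Y : Scheme.{u}} (p : X ⟶ Spec (CommRingCat.of A)) (α : Y ⟶ X)
    (x : X) : Prop :=
  ∃ (W : Scheme.{u}) (w : W ⟶ X) (_ : Etale w)
    (τ : W ⟶ CohB1.ProjSpaceOver 1 (Spec (CommRingCat.of A))) (_ : Smooth τ),
    τ ≫ CohB1.ProjSpaceOver.toBase 1 (Spec (CommRingCat.of A)) = w ≫ p ∧ x ∈ Set.range w ∧
      ∀ y : W, w y ∈ Set.range α ↔ τ y ∈ Set.range (v (Spec (CommRingCat.of A)) 1)

end Groth.Agent.Vancyc.H680.CompactVan
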