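import Groth.Agent.Vancyc.H680.InftyVan
import Groth.Agent.S0162
import Groth.Agent.Etrest.FLCLocal
import Groth.Agent.Vancyc.H680.GoodAt
import Groth.Agent.Vancyc.H686.VanSH

/-!
# Vanishing on open subschemes of proper schemes with a good boundary

`A` strictly henselian local, `T = Spec A`, `C` an abelian sheaf on `T` killed by `N` (invertible in `A`)
with zero stalk at the closed point, `p : X ⟶ T` proper, `α : Y ⟶ X` an open immersion such that every point
of the closed fibre of `X` outside `Y` has an étale neighbourhood `w : W ⟶ X` with a smooth `T`-morphism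
`τ : W ⟶ P¹_T` such that `w⁻¹ Y = τ⁻¹ (𝔸¹_T)`.  Then `H^q(Y, C|_Y) = 0` for all `q`.
-/

set_option autoImplicit false
universe u
open CategoryTheory CategoryTheory.Limits AlgebraicGeometry Opposite

namespace Groth.Agent.Vancyc.H680.CompactVan

open Groth.Agent.EtpbcA.Artin Groth.Agent.EtpbcA.CdEtLeray Groth.Agent.Sga4B.P1Geom InftyVan

theorem isTorsionInvertibleOn_of_killedBy {S X : Scheme.{u}} {N : ℕ} (hN : IsUnit (N : Γ(S, ⊤)))
    {F : EtCoh.Ab X} (hF : EtCoh.KilledBy N F) : EtPBC.IsTorsionInvertibleOn S F := by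
  intro U s x
  exact ⟨U, 𝟙 U, N, ⟨x, rfl⟩, hN, hF U _⟩

theorem isUnit_natCast_of_hom {X Y : Scheme.{u}} (f : X ⟶ Y) {N : ℕ} (hN : IsUnit (N : Γ(Y, ⊤))) :
    IsUnit (N : Γ(X, ⊤)) := by
  have h := hN.map f.appTop.hom
  rwa [map_natCast] at h

section sheaf

variable (A : Type u) [CommRing A] [HenselianLocalRing A] [IsSepClosed (IsLocalRing.ResidueField A)]
  (N : ℕ) (hN : IsUnit (N : A)) (C : EtCoh.Ab (Spec (CommRingCat.of A))) (hC : EtCoh.KilledBy N C)
  (hC0 : IsLocalRing.closedPoint A ∉ EtPBC.supp C)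

variable {X Y : Scheme.{u}} (p : X ⟶ Spec (CommRingCat.of A)) (α : Y ⟶ X) [IsOpenImmersion α]

include hN hC hC0 in
theorem not_mem_supp_of_goodAt (x : X) (hpx : p x = IsLocalRing.closedPoint A) (hx : GoodAt A p α x) (q : ℕ) :
    x ∉ EtPBC.supp ((EtCoh.Rpush α q).obj ((EtCoh.pull (α ≫ p)).obj C)) := by
  obtain ⟨W, w, _, τ, _, hτ, ⟨y, rfl⟩, hr⟩ := hx
  let T := Spec (CommRingCat.of A)
  -- the open subscheme `W° = w⁻¹ Y`
  let h := pullback.snd α w
  let e₁ := pullback.fst α w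
  have hsq1 : IsPullback h e₁ w α := (IsPullback.of_hasPullback α w).flip
  have hrange : Set.range h = w ⁻¹' Set.range α := Scheme.Pullback.range_snd α w
  let e : pullback α w ⟶ Aff A := IsOpenImmersion.lift (beta A) (h ≫ τ) (by
    rintro _ ⟨z, rfl⟩
    have hz : h z ∈ Set.range h := ⟨z, rfl⟩
    rw [hrange] at hz
    have := (hr (h z)).1 hz
    rwa [Scheme.Hom.comp_apply])
  have he : e ≫ beta A = h ≫ τ := IsOpenImmersion.lift_fac _ _ _
  have hsq2 : IsPullback e h (beta A) τ := by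
    refine IsOpenImmersion.isPullback e h (beta A) τ he.symm ?_
    ext z
    change τ z ∈ Set.range (beta A) ↔ z ∈ Set.range h
    rw [hrange]
    exact (hr z).symm
  -- the sheaf
  obtain ⟨i1⟩ := Etrest.FLCLocal.pull_Rpush_iso w α e₁ h hsq1.flip ((EtCoh.pull (α ≫ p)).obj C) q
  have hNP : IsUnit (N : Γ(CohB1.ProjSpaceOver 1 T, ⊤)) :=
    isUnit_natCast_of_hom (CohB1.ProjSpaceOver.toBase 1 T) (isUnit_natCast_top hN)
  have hFk : EtCoh.KilledBy N (FF A C) := Sga4h.ConsWO.killedBy_pull _ hC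
  have hqc : QuasiCompact (beta A) := by
    have h1 : QuasiCompact (beta A ≫ CohB1.ProjSpaceOver.toBase 1 T) := by
      have h2 : beta A ≫ CohB1.ProjSpaceOver.toBase 1 T = 𝔸(I.{u}; T) ↘ T := v_toBase T 1
      rw [h2]
      infer_instance
    exact QuasiCompact.of_comp (beta A) (CohB1.ProjSpaceOver.toBase 1 T)
  obtain ⟨⟨i2⟩, -⟩ := Groth.Agent.S0162.result τ (beta A) h e hsq2 (FF A C)
    (isTorsionInvertibleOn_of_killedBy hNP hFk) q
  have heq : e ≫ (𝔸(I.{u}; T) ↘ T) = e₁ ≫ α ≫ p := by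
    have h1 : (𝔸(I.{u}; T) ↘ T) = beta A ≫ CohB1.ProjSpaceOver.toBase 1 T := (v_toBase T 1).symm
    rw [h1, ← Category.assoc, he, Category.assoc, hτ, ← Category.assoc, ← Category.assoc, hsq1.w]
  have i3 : (EtCoh.pull e).obj (FF A C) ≅ (EtCoh.pull e₁).obj ((EtCoh.pull (α ≫ p)).obj C) :=
    ((EtCore.pullComp e (𝔸(I.{u}; T) ↘ T)).symm.app C) ≪≫ ((EtCore.pullCongr heq).app C) ≪≫
      ((EtCore.pullComp e₁ (α ≫ p)).app C)
  have h1 : y ∉ EtPBC.supp ((EtCoh.pull τ).obj ((EtCoh.Rpush (beta A) q).obj (FF A C))) := by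
    rw [supp_pull]
    refine InftyVan.not_mem_supp A N hN C hC hC0 q (τ y) ?_
    have h2 : (τ ≫ CohB1.ProjSpaceOver.toBase 1 T) y = (w ≫ p) y := by rw [hτ]
    exact h2.trans hpx
  have h2 : y ∉ EtPBC.supp ((EtCoh.pull w).obj ((EtCoh.Rpush α q).obj ((EtCoh.pull (α ≫ p)).obj C))) := by
    rwa [supp_congr (i1 ≪≫ (EtCoh.Rpush h q).mapIso i3.symm ≪≫ i2.symm)]
  rw [supp_pull] at h2
  exact h2

include hN hC hC0 in
/-- **Vanishing from a good compactification.** -/
theorem H_subsingleton [IsProper p]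
    (hgood : ∀ x : X, p x = IsLocalRing.closedPoint A → x ∉ Set.range α → GoodAt A p α x) (q : ℕ) :
    Subsingleton (EtCoh.H Y ((EtCoh.pull (α ≫ p)).obj C) q) := by
  have hNpos : 0 < N := pos_of_isUnit hN
  refine EtpbcA.CdT1.H_subsingleton_of_Rpush α _ q fun a b _ => ?_
  refine PbcVan.H_subsingleton A p _ (EtpbcB.TorsionBasic.isTorsion_of_killedBy hNpos
    (Sga4h.ConsWO.killedBy_rpush _ (Sga4h.ConsWO.killedBy_pull _ hC) b)) (fun x hx => ?_) a
  by_cases hr : x ∈ Set.range α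
  · obtain ⟨y, rfl⟩ := hr
    refine not_mem_supp_Rpush α _ b y ?_
    rw [supp_pull]
    intro h
    apply hC0
    rw [← hx]
    exact h
  · exact not_mem_supp_of_goodAt A N hN C hC hC0 p α x hx (hgood x hx hr) b

end sheaf

/-- **Vanishing from a good compactification**, in the form `Van N f`. -/
theorem van (A : Type u) [CommRing A] [HenselianLocalRing A] [IsSepClosed (IsLocalRing.ResidueField A)]
    (N : ℕ) (hN : IsUnit (N : A)) {X Y : Scheme.{u}} (p : X ⟶ Spec (CommRingCat.of A)) [IsProper p]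
    (α : Y ⟶ X) [IsOpenImmersion α]
    (hgood : ∀ x : X, p x = IsLocalRing.closedPoint A → x ∉ Set.range α → GoodAt A p α x) :
    H686.Van.Van N (α ≫ p) := by
  intro C hC h0 q
  refine H_subsingleton A N hN C hC ?_ p α hgood q
  have h2 := (H686.VanSH.allZero_iff_pull C).1 h0
  have h3 := supp_eq_empty_of_isZero h2 default
  rw [supp_pull] at h3
  intro h
  apply h3
  change Etbase.StrictHensPoint.pt A default ∈ EtPBC.supp C
  have e : Etbase.StrictHensPoint.pt A default = IsLocalRing.closedPoint A := by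
    have h : (default : Spec (CommRingCat.of (IsLocalRing.ResidueField A))) =
        (IsLocalRing.closedPoint (IsLocalRing.ResidueField A) : PrimeSpectrum _) :=
      Subsingleton.elim (α := Spec (CommRingCat.of (IsLocalRing.ResidueField A))) _ _
    rw [h]
    exact IsLocalRing.comap_closedPoint (IsLocalRing.residue A)
  rw [e]
  exact h

end Groth.Agent.Vancyc.H680.CompactVan
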