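import Groth.Agent.Vancyc.H680.PointCoh
import Groth.Agent.Vancyc.H686.VanSH
import Groth.Agent.Vancyc.H675.AcycPt
import Groth.Agent.Etcore.NormalAcyclic
import Groth.Agent.Sga4A.IntegralSection
import Groth.Agent.S0655

/-!
# The constant sheaf is good if the geometric closed fibre is contractible
-/

set_option autoImplicit false
universe u
open CategoryTheory CategoryTheory.Limits AlgebraicGeometry Opposite

namespace Groth.Agent.Vancyc.H680.GoodFibre

open Germ GoodAbs GoodConst PointCoh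
open Groth.Agent.Vancyc.H686.Van Groth.Agent.Vancyc.H686.VanMV Groth.Agent.Vancyc.H686.VanSH

/-- The constant sheaf. -/
noncomputable abbrev ZN (N : ℕ) (S : Scheme.{u}) : EtCoh.Ab S := EtCoh.const S (ZMod N)

theorem killedBy_ZN (N : ℕ) (S : Scheme.{u}) : EtCoh.KilledBy N (ZN N S) :=
  H675.AcycPt.killedBy_constU S N _ fun m => by
    obtain ⟨m⟩ := m
    apply ULift.ext
    change N • m = 0
    simp

variable (R : Type u) [CommRing R] [HenselianLocalRing R] [IsSepClosed (IsLocalRing.ResidueField R)]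
  {Y : Scheme.{u}} (f : Y ⟶ Spec (CommRingCat.of R)) {N : ℕ} (hV : Van N f)
  {K : Type u} [Field K] [IsSepClosed K] {g : Spec (CommRingCat.of K) ⟶ Spec (CommRingCat.of R)}
  [IsIntegralHom g] {P : Scheme.{u}} {h : P ⟶ Y} {e : P ⟶ Spec (CommRingCat.of K)}
  (hsq : IsPullback e h g f)

include hV hsq in
/-- The cohomology of `Y` is that of the geometric closed fibre. -/
theorem bijective_Hpull_fibre [PreservesFiniteLimits (EtCoh.pull h)] (q : ℕ) :
    Function.Bijective (EtCore.Hpull h ((EtCoh.pull f).obj (ZN N (Spec (CommRingCat.of R)))) q) := by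
  let G := ZN N (Spec (CommRingCat.of R))
  have hpt : Etbase.StrictHensPoint.pt R default = IsLocalRing.closedPoint R := by
    have h : (default : Spec (CommRingCat.of (IsLocalRing.ResidueField R))) =
        (IsLocalRing.closedPoint (IsLocalRing.ResidueField R) : PrimeSpectrum _) :=
      Subsingleton.elim (α := Spec (CommRingCat.of (IsLocalRing.ResidueField R))) _ _
    rw [h]
    exact IsLocalRing.comap_closedPoint (IsLocalRing.residue R)
  have hiso : IsIso ((EtCoh.stalk (Etbase.StrictHensPoint.pt R)).map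
      ((EtCoh.pullPushAdj g).unit.app G)) :=
    H675.AcycPt.isIso_stalk_unit_const R g _ (Etbase.StrictHensPoint.pt R) hpt
  have hu : EtpbcB.BCIso.BijAt ((EtCoh.pullPushAdj g).unit.app G) (EtCoh.top _) :=
    (EtpbcA.LA.bijAt_top_iff_stalk _ hpt _).2 ((ConcreteCategory.isIso_iff_bijective _).1 hiso)
  have hh : IsIntegralHom h := MorphismProperty.of_isPullback (P := @IsIntegralHom) hsq inferInstance
  have bc0 : IsIso (EtCoh.baseChange0 g f h e hsq.w ((EtCoh.pull g).obj G)) :=
    Groth.Agent.S0655.result g f h e hsq _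
  refine bijective_Hpull hsq.w hV G (killedBy_ZN N _) hu
    (fun q hq => Etcore.NormalAcyclic.isZero_Rpush_point g _ q hq) (fun q => ?_) bc0 q
  rcases Nat.eq_zero_or_pos q with rfl | hq
  · exact ⟨(EtCoh.pull f).mapIso ((EtCoh.push g).rightDerivedZeroIsoSelf.app _) ≪≫
      asIso (EtCoh.baseChange0 g f h e hsq.w ((EtCoh.pull g).obj G)) ≪≫
      (EtCoh.push h).rightDerivedZeroIsoSelf.symm.app _⟩
  · have h1 : IsZero ((EtCoh.pull f).obj ((EtCoh.Rpush g q).obj ((EtCoh.pull g).obj G))) :=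
      (EtCoh.pull f).map_isZero (Etcore.NormalAcyclic.isZero_Rpush_point g _ q hq)
    have h2 : IsZero ((EtCoh.Rpush h q).obj ((EtCoh.pull e).obj ((EtCoh.pull g).obj G))) :=
      Sga4A.EtSplit.isZero_Rpush h _ q hq
    exact ⟨h1.iso h2⟩

include hV hsq in
/-- If the geometric closed fibre has the cohomology of a point, so has `Y`. -/
theorem H_const (hP : (∀ q, 0 < q → Subsingleton (EtCoh.H P (EtCoh.const P (ZMod N)) q)) ∧
      Nat.card (EtCoh.H P (EtCoh.const P (ZMod N)) 0) = N) :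
    (∀ q, 0 < q → Subsingleton (EtCoh.H Y (EtCoh.const Y (ZMod N)) q)) ∧
      Nat.card (EtCoh.H Y (EtCoh.const Y (ZMod N)) 0) = N := by
  have : PreservesFiniteLimits (EtCoh.pull h) := EtpbcB.HRel.pull_exact h
  have e1 : (EtCoh.pull f).obj (ZN N (Spec (CommRingCat.of R))) ≅ EtCoh.const Y (ZMod N) :=
    H675.AcycPt.pullConstU f _
  have e2 : (EtCoh.pull h).obj ((EtCoh.pull f).obj (ZN N (Spec (CommRingCat.of R)))) ≅
      EtCoh.const P (ZMod N) :=
    (EtCoh.pull h).mapIso e1 ≪≫ H675.AcycPt.pullConstU h _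
  have key (q : ℕ) : Nonempty (EtCoh.H Y (EtCoh.const Y (ZMod N)) q ≃
      EtCoh.H P (EtCoh.const P (ZMod N)) q) :=
    ⟨(EtpbcB.IsoTransport.HMapIso e1 q).symm.toEquiv.trans ((Equiv.ofBijective _
      (bijective_Hpull_fibre R f hV hsq q)).trans (EtpbcB.IsoTransport.HMapIso e2 q).toEquiv)⟩
  refine ⟨fun q hq => ?_, ?_⟩
  · obtain ⟨E⟩ := key q
    have := hP.1 q hq
    exact E.injective.subsingleton
  · obtain ⟨E⟩ := key 0
    rw [Nat.card_congr E]
    exact hP.2

include hV hsq in
theorem good_const_of_fibre (hN : 0 < N) (hP : (∀ q, 0 < q → Subsingleton (EtCoh.H P (EtCoh.const P (ZMod N)) q)) ∧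
      Nat.card (EtCoh.H P (EtCoh.const P (ZMod N)) 0) = N)
    {Ω : Type u} [Field Ω] [IsSepClosed Ω] (ξ : Spec (CommRingCat.of Ω) ⟶ Y) :
    Good (germNat ξ) (EtCoh.const Y (ZMod N)) := by
  obtain ⟨h1, h2⟩ := H_const R f hV hsq hP
  exact good_const ξ N hN h1 h2

end Groth.Agent.Vancyc.H680.GoodFibre
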