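import Groth.Agent.Vancyc.H680.Germ
import Groth.Agent.Etcore.PrimeFilt

/-!
# Constant sheaves which are good

If `H^q(Y, ℤ/N) = 0` for `q > 0` and `H^0(Y, ℤ/N)` has `N` elements then `ℤ/N` is good at every geometric point.
-/

set_option autoImplicit false
universe u
open CategoryTheory CategoryTheory.Limits AlgebraicGeometry Opposite

namespace Groth.Agent.Vancyc.H680.GoodConst

open Germ GoodAbs

variable {Y : Scheme.{u}} {Ω : Type u} [Field Ω] [IsSepClosed Ω] (ξ : Spec (CommRingCat.of Ω) ⟶ Y)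

theorem good_const (N : ℕ) (hN : 0 < N)
    (h : ∀ q, 0 < q → Subsingleton (EtCoh.H Y (EtCoh.const Y (ZMod N)) q))
    (h0 : Nat.card (EtCoh.H Y (EtCoh.const Y (ZMod N)) 0) = N) :
    Good (germNat ξ) (EtCoh.const Y (ZMod N)) := by
  have : NeZero N := ⟨hN.ne'⟩
  refine (good_iff ξ _).2 ⟨h, ?_⟩
  have h1 : Nat.card (EtCoh.sect (EtCoh.const Y (ZMod N)) (EtCoh.top Y)) = N := by
    refine Eq.trans ?_ h0
    exact (Nat.card_congr (Sheaf.H.equiv₀ (EtCoh.const Y (ZMod N)) (EtCore.topIsTerminal Y)).toEquiv).symm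
  have h2 : Nat.card ((EtCoh.stalk ξ).obj (EtCoh.const Y (ZMod N)) : AddCommGrpCat.{u + 1}) = N := by
    rw [Etcore.PrimeFilt.card_stalk_const, Nat.card_zmod]
  have hf1 : Finite (EtCoh.sect (EtCoh.const Y (ZMod N)) (EtCoh.top Y)) :=
    Nat.finite_of_card_ne_zero (by rw [h1]; exact hN.ne')
  have hf2 : Finite ((EtCoh.stalk ξ).obj (EtCoh.const Y (ZMod N)) : AddCommGrpCat.{u + 1}) :=
    Nat.finite_of_card_ne_zero (by rw [h2]; exact hN.ne')
  have hs : Function.Surjective (Etcore.StalkSec.germ ξ (EtCoh.const Y (ZMod N)) (EtCoh.top Y)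
      (eltTop ξ)) := by
    intro c
    obtain ⟨m, hm⟩ := Etcore.PrimeFilt.exists_constSec (ZMod N) ξ c
    refine ⟨Etcore.PrimeFilt.constSec Y (ZMod N) m, ?_⟩
    rw [hm, elt_unique ξ (Etcore.ReprStalk.topPt ξ)]
    rfl
  exact (Nat.bijective_iff_surjective_and_card _).2 ⟨hs, h1.trans h2.symm⟩

end Groth.Agent.Vancyc.H680.GoodConst
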