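import Groth.Agent.Vancyc.H680.OpenGood
import Groth.Agent.Vancyc.H680.GoodConst
import Groth.Agent.Vancyc.H686.VanSH
import Groth.Agent.Vancyc.H675.AcycPt
import Groth.Agent.Etcore.NormalAcyclic
import Groth.Agent.Etrest.FLCLocal
import Groth.Agent.S0162

/-!
# Local = global

`R` strictly henselian local, `f : Y ⟶ Spec R`, `ξ` a geometric point of `Y` over a closed point with
separably closed residue field lying over the closed point of `Spec R`, `f` smooth at all other points.
Assume `Van N f` (sheaves on `Spec R` killed by `N` and without cohomology pull back to sheaves without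
cohomology), `H^q(Y, ℤ/N) = 0` for `q > 0`, `H^0(Y, ℤ/N)` of order `N`, `N` invertible on `R`.
Then for every geometric point `g` of `Spec R`, with base change `h : Y_g ⟶ Y`, all sheaves `R^q h_* ℤ/N` are
good at `ξ` (`good_Rpush`), hence `(R^q h_* ℤ/N)_ξ ≃ H^q(Y_g, ℤ/N)` (`stalk_Rpush_equiv`).
-/

set_option autoImplicit false
universe u
open CategoryTheory CategoryTheory.Limits AlgebraicGeometry Opposite

namespace Groth.Agent.Vancyc.H680.LocalGlobal

open Groth.Agent.EtpbcA.Artin Germ GoodAbs OpenGood GoodConst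
open Groth.Agent.Vancyc.H686.Van Groth.Agent.Vancyc.H686.VanMV Groth.Agent.Vancyc.H686.VanSH

theorem isTorsionInvertibleOn_of_killedBy {S X : Scheme.{u}} {N : ℕ} (hN : IsUnit (N : Γ(S, ⊤)))
    {F : EtCoh.Ab X} (hF : EtCoh.KilledBy N F) : EtPBC.IsTorsionInvertibleOn S F := by
  intro U s x
  exact ⟨U, 𝟙 U, N, ⟨x, rfl⟩, hN, hF U _⟩

theorem isUnit_natCast_top {A : Type u} [CommRing A] {N : ℕ} (hN : IsUnit (N : A)) :
    IsUnit (N : Γ(Spec (CommRingCat.of A), ⊤)) := by
  have h := hN.map (Scheme.ΓSpecIso (CommRingCat.of A)).inv.hom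
  rwa [map_natCast] at h

theorem pos_of_isUnit {A : Type u} [CommRing A] [Nontrivial A] {N : ℕ} (hN : IsUnit (N : A)) : 0 < N := by
  rcases Nat.eq_zero_or_pos N with h | h
  · subst h
    rw [Nat.cast_zero] at hN
    exact absurd hN not_isUnit_zero
  · exact h

variable (R : Type u) [CommRing R] [HenselianLocalRing R] [IsSepClosed (IsLocalRing.ResidueField R)]
  {Y : Scheme.{u}} (f : Y ⟶ Spec (CommRingCat.of R)) {N : ℕ} (hN : IsUnit (N : R))
  {Ω : Type u} [Field Ω] [IsSepClosed Ω] (ξ : Spec (CommRingCat.of Ω) ⟶ Y)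
  (hs : f (ξ default) = IsLocalRing.closedPoint R) (hV : Van N f)

include hs hV in
/-- Pull-backs of sheaves without cohomology are good. -/
theorem good_of_van (C : EtCoh.Ab (Spec (CommRingCat.of R))) (hC : EtCoh.KilledBy N C) (h0 : AllZero C) :
    Good (germNat ξ) ((EtCoh.pull f).obj C) := by
  refine good_of_subsingleton ξ _ (hV C hC h0) ?_
  have h1 : IsLocalRing.closedPoint R ∉ EtPBC.supp C := by
    have h2 := (allZero_iff_pull C).1 h0
    have h3 := supp_eq_empty_of_isZero h2 default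
    rw [supp_pull] at h3
    intro h
    apply h3
    change Etbase.StrictHensPoint.pt R default ∈ EtPBC.supp C
    have e : Etbase.StrictHensPoint.pt R default = IsLocalRing.closedPoint R := by
      have h : (default : Spec (CommRingCat.of (IsLocalRing.ResidueField R))) =
          (IsLocalRing.closedPoint (IsLocalRing.ResidueField R) : PrimeSpectrum _) :=
        Subsingleton.elim (α := Spec (CommRingCat.of (IsLocalRing.ResidueField R))) _ _
      rw [h]
      exact IsLocalRing.comap_closedPoint (IsLocalRing.residue R)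
    rw [e]
    exact h
  have h2 : ξ default ∉ EtPBC.supp ((EtCoh.pull f).obj C) := by
    rw [supp_pull]
    intro h
    apply h1
    rw [← hs]
    exact h
  rw [mem_supp_iff _ _ ξ ((range_eq_iff ξ _).2 rfl), not_not] at h2
  exact h2

/-- The constant sheaf on the base. -/
noncomputable abbrev ZN (N : ℕ) (S : Scheme.{u}) : EtCoh.Ab S := EtCoh.const S (ZMod N)

theorem killedBy_ZN (N : ℕ) (S : Scheme.{u}) : EtCoh.KilledBy N (ZN N S) :=
  H675.AcycPt.killedBy_constU S N _ fun m => by
    obtain ⟨m⟩ := m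
    apply ULift.ext
    change N • m = 0
    simp

include hs hV in
/-- `f⁻¹ (g_* ℤ/N)` is good if `ℤ/N` is good on `Y`. -/
theorem good_pull_push (hgood : Good (germNat ξ) (ZN N Y)) {K : Type u} [Field K] [IsSepClosed K]
    (g : Spec (CommRingCat.of K) ⟶ Spec (CommRingCat.of R)) :
    Good (germNat ξ) ((EtCoh.pull f).obj ((EtCoh.push g).obj ((EtCoh.pull g).obj
      (ZN N (Spec (CommRingCat.of R)))))) := by
  let G := ZN N (Spec (CommRingCat.of R))
  let u : G ⟶ (EtCoh.push g).obj ((EtCoh.pull g).obj G) := (EtCoh.pullPushAdj g).unit.app G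
  have hG : EtCoh.KilledBy N G := killedBy_ZN N _
  have kG : EtCoh.KilledBy N ((EtCoh.push g).obj ((EtCoh.pull g).obj G)) :=
    EtpbcB.NKillEt.killedBy_push g (EtpbcB.NKillEt.killedBy_pull g hG)
  have kker : EtCoh.KilledBy N (kernel u) := by
    rw [EtpbcB.NKillEt.killedBy_iff] at hG ⊢
    exact EtpbcB.NKill.killed_of_mono (kernel.ι u) hG
  have kcok : EtCoh.KilledBy N (cokernel u) := by
    rw [EtpbcB.NKillEt.killedBy_iff] at kG ⊢
    exact EtpbcB.NKill.killed_of_epi (cokernel.π u) kG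
  have e : Etbase.StrictHensPoint.pt R default = IsLocalRing.closedPoint R := by
    have h : (default : Spec (CommRingCat.of (IsLocalRing.ResidueField R))) =
        (IsLocalRing.closedPoint (IsLocalRing.ResidueField R) : PrimeSpectrum _) :=
      Subsingleton.elim (α := Spec (CommRingCat.of (IsLocalRing.ResidueField R))) _ _
    rw [h]
    exact IsLocalRing.comap_closedPoint (IsLocalRing.residue R)
  have hiso : IsIso ((EtCoh.stalk (Etbase.StrictHensPoint.pt R)).map u) :=
    H675.AcycPt.isIso_stalk_unit_const R g _ (Etbase.StrictHensPoint.pt R) e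
  have hker : AllZero (kernel u) := by
    rw [allZero_iff]
    refine IsZero.of_iso ?_ (PreservesKernel.iso (EtCoh.stalk (Etbase.StrictHensPoint.pt R)) u)
    exact isZero_kernel_of_mono _
  have hcok : AllZero (cokernel u) := by
    rw [allZero_iff]
    refine IsZero.of_iso ?_ (PreservesCokernel.iso (EtCoh.stalk (Etbase.StrictHensPoint.pt R)) u)
    exact isZero_cokernel_of_epi _
  have := OpenGood.pull_exact f
  have gk : Good (germNat ξ) (kernel ((EtCoh.pull f).map u)) :=
    Good.of_iso (PreservesKernel.iso (EtCoh.pull f) u) (good_of_van R f ξ hs hV _ kker hker)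
  have gc : Good (germNat ξ) (cokernel ((EtCoh.pull f).map u)) :=
    Good.of_iso (PreservesCokernel.iso (EtCoh.pull f) u) (good_of_van R f ξ hs hV _ kcok hcok)
  refine Good.tgt _ ((EtCoh.pull f).map u) gk gc ?_
  exact Good.of_iso (H675.AcycPt.pullConstU f _).symm hgood

section main

variable (hcl : IsClosed ({ξ default} : Set Y)) (hsc : IsSepClosed (Y.residueField (ξ default)))
  {U : Scheme.{u}} (j : U ⟶ Y) [IsOpenImmersion j] (hU : ∀ y : Y, y ≠ ξ default → y ∈ Set.range j)
  (hsm : Smooth (j ≫ f)) (hgood : Good (germNat ξ) (ZN N Y))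
  {K : Type u} [Field K] [IsSepClosed K] {g : Spec (CommRingCat.of K) ⟶ Spec (CommRingCat.of R)}
  {P : Scheme.{u}} {h : P ⟶ Y} {e : P ⟶ Spec (CommRingCat.of K)} (hsq : IsPullback e h g f)

include hN hs hV hcl hsc hU hsm hgood hsq

/-- All the higher direct images are good. -/
theorem good_Rpush (q : ℕ) : Good (germNat ξ) ((EtCoh.Rpush h q).obj (ZN N P)) := by
  let G := ZN N (Spec (CommRingCat.of R))
  let F₀ : EtCoh.Ab (Spec (CommRingCat.of K)) := (EtCoh.pull g).obj G
  have hF₀ : EtCoh.KilledBy N F₀ := EtpbcB.NKillEt.killedBy_pull g (killedBy_ZN N _)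
  -- the sheaf on `P`
  have iP : (EtCoh.pull e).obj F₀ ≅ ZN N P :=
    (EtCoh.pull e).mapIso (H675.AcycPt.pullConstU g _) ≪≫ H675.AcycPt.pullConstU e _
  -- restriction to `U`
  let jP := pullback.fst h j
  let hUP := pullback.snd h j
  have sq1 : IsPullback jP hUP h j := IsPullback.of_hasPullback h j
  obtain ⟨i1⟩ := Etrest.FLCLocal.pull_Rpush_iso j h jP hUP sq1 (ZN N P) q
  have sq2 : IsPullback (jP ≫ e) hUP g (j ≫ f) := by
    have := sq1.flip.paste_vert hsq.flip
    exact this.flip
  obtain ⟨⟨i2⟩, -⟩ := Groth.Agent.S0162.result (j ≫ f) g hUP (jP ≫ e) sq2 F₀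
    (isTorsionInvertibleOn_of_killedBy (isUnit_natCast_top hN) hF₀) q
  have i3 : (EtCoh.pull (jP ≫ e)).obj F₀ ≅ (EtCoh.pull jP).obj (ZN N P) :=
    (EtpbcA.PullFLC.pullComp jP e).symm.app F₀ ≪≫ (EtCoh.pull jP).mapIso iP
  -- `R^q h_* F` and `f⁻¹ R^q g_* F₀` agree on `U`
  have i4 : (EtCoh.pull j).obj ((EtCoh.pull f).obj ((EtCoh.Rpush g q).obj F₀)) ≅
      (EtCoh.pull j).obj ((EtCoh.Rpush h q).obj (ZN N P)) :=
    (EtpbcA.PullFLC.pullComp j f).app _ ≪≫ i2 ≪≫ (EtCoh.Rpush hUP q).mapIso i3 ≪≫ i1.symm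
  refine good_congr ξ hcl hsc j hU i4 ?_
  rcases Nat.eq_zero_or_pos q with rfl | hq
  · refine Good.of_iso ?_ (good_pull_push R f ξ hs hV hgood g)
    exact (EtCoh.pull f).mapIso ((EtCoh.push g).rightDerivedZeroIsoSelf.symm.app F₀)
  · have hz : IsZero ((EtCoh.pull f).obj ((EtCoh.Rpush g q).obj F₀)) :=
      (EtCoh.pull f).map_isZero (Etcore.NormalAcyclic.isZero_Rpush_point g F₀ q hq)
    exact good_of_supp ξ hcl hsc _ fun y hy => absurd hy (supp_eq_empty_of_isZero hz y)

/-- **Local = global** for the stalks of the nearby cycles. -/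
theorem stalk_Rpush_equiv (q : ℕ) :
    Nonempty (((EtCoh.stalk ξ).obj ((EtCoh.Rpush h q).obj (ZN N P)) : AddCommGrpCat.{u + 1}) ≃+
      EtCoh.H P (ZN N P) q) :=
  Germ.stalk_Rpush_equiv ξ h (ZN N P)
    (good_Rpush R f hN ξ hs hV hcl hsc j hU hsm hgood hsq) q

end main

end Groth.Agent.Vancyc.H680.LocalGlobal
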