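import Groth.Agent.Vancyc.H680.HypGood
import Groth.Agent.Vancyc.H694.StdT

/-!
# The compactifications of the split quadric models

`formOdd`, `formEven`: the homogenized equations of `H694.StdT.modelOdd`, `H694.StdT.modelEven`; the projective
hypersurfaces are good at all points at infinity.
-/

set_option autoImplicit false
universe u
open CategoryTheory CategoryTheory.Limits AlgebraicGeometry Opposite MvPolynomial

namespace Groth.Agent.Vancyc.H680.ModelGeom

open Groth.Agent.Lefpen.H713.HypProj Groth.Agent.Sga5.ProjChart Groth.Agent.Vancyc.H694.StdT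
open CompactVan HypGood

section general

variable {n : ℕ} {A : Type u} [CommRing A] {d : ℕ} (q : ↥(CohB1.polyGrading n A d))

/-- Putting `X_v = 0`. -/
noncomputable def sub0 {σ : Type} [DecidableEq σ] (v : σ) : MvPolynomial σ A →ₐ[A] MvPolynomial σ A :=
  aeval fun i => if i = v then 0 else X i

theorem sub0_X_ne {σ : Type} [DecidableEq σ] (v i : σ) (h : i ≠ v) :
    sub0 (A := A) v (X i) = X i := by
  rw [sub0, aeval_X, if_neg h]

theorem sub0_X_self {σ : Type} [DecidableEq σ] (v : σ) : sub0 (A := A) v (X v) = 0 := by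
  rw [sub0, aeval_X, if_pos rfl]

theorem sub0_C {σ : Type} [DecidableEq σ] (v : σ) (a : A) : sub0 (A := A) v (C a) = C a :=
  (sub0 (A := A) v).commutes a

/-- A polynomial fixed by `X_v ↦ 0` does not involve `X_v`. -/
theorem exists_rename {σ : Type} [DecidableEq σ] (v : σ) (r : MvPolynomial σ A) (hr : sub0 v r = r) :
    ∃ g : MvPolynomial {i : σ // i ≠ v} A, r = rename Subtype.val g := by
  refine ⟨aeval (fun i => if h : i = v then 0 else X ⟨i, h⟩) r, ?_⟩
  conv_lhs => rw [← hr]
  rw [sub0]
  have : (rename Subtype.val : MvPolynomial {i : σ // i ≠ v} A →ₐ[A] MvPolynomial σ A).comp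
      (aeval (fun i => if h : i = v then 0 else X ⟨i, h⟩)) = aeval fun i => if i = v then 0 else X i := by
    refine algHom_ext fun i => ?_
    rw [AlgHom.comp_apply, aeval_X, aeval_X]
    split_ifs with h
    · exact map_zero _
    · exact rename_X _ _
  exact (AlgHom.congr_fun this r).symm

theorem dehom_sub0 (k : Fin (n + 1)) (j : Fin n) (r : MvPolynomial (Fin (n + 1)) A) :
    sub0 j (dehom n A k r) = dehom n A k (sub0 (k.succAbove j) r) := by
  have : (sub0 (A := A) j).toRingHom.comp (dehom n A k) =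
      (dehom n A k).comp (sub0 (A := A) (k.succAbove j)).toRingHom := by
    refine ringHom_ext (fun a => ?_) fun i => ?_
    · simp only [RingHom.comp_apply, dehom_C]
      exact (sub0_C j a).trans ((congrArg (dehom n A k) (sub0_C (k.succAbove j) a)).trans (dehom_C n A k a)).symm
    · simp only [RingHom.comp_apply]
      rcases Fin.eq_self_or_eq_succAbove k i with rfl | ⟨i, rfl⟩
      · have h1 : sub0 (A := A) (i.succAbove j) (X i) = X i := sub0_X_ne _ _ (Fin.succAbove_ne i j).symm
        refine Eq.trans ?_ (congrArg (dehom n A i) h1).symm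
        rw [dehom_X_self]
        exact map_one _
      · rw [dehom_X]
        by_cases h : i = j
        · subst h
          refine (sub0_X_self i).trans ?_
          exact ((congrArg (dehom n A k) (sub0_X_self (k.succAbove i))).trans (map_zero _)).symm
        · refine (sub0_X_ne j i h).trans ?_
          have h2 : sub0 (A := A) (k.succAbove j) (X (k.succAbove i)) = X (k.succAbove i) :=
            sub0_X_ne _ _ fun h' => h (Fin.succAbove_right_injective h')
          exact ((congrArg (dehom n A k) h2).trans (dehom_X n A k i)).symm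
  exact RingHom.congr_fun this r

/-- Hypersurfaces of the form `X_k X_v + r`, `r` not involving `X_v`. -/
theorem goodAt_of_form (k w : Fin (n + 1)) (hk : k ≠ 0) (hw : w ≠ 0) (hkw : w ≠ k)
    (r : MvPolynomial (Fin (n + 1)) A) (hq : q.1 = X k * X w + r) (hr : sub0 w r = r)
    (x : Hyp q) (hx : x ∈ (chartH q k).opensRange) : GoodAt A (toSpec q) (chartH q 0) x := by
  obtain ⟨t, ht⟩ := (Fin.exists_succAbove_eq_iff (x := k) (y := 0)).2 hk.symm
  obtain ⟨j, hj⟩ := (Fin.exists_succAbove_eq_iff (x := k) (y := w)).2 hkw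
  have htj : t ≠ j := by
    rintro rfl
    exact hw (hj.symm.trans ht)
  have h1 : sub0 j (dehom n A k r) = dehom n A k r := by rw [dehom_sub0, hj, hr]
  obtain ⟨g, hg⟩ := exists_rename j _ h1
  refine goodAt_of_chart q k t j htj ht g ?_ x hx
  rw [hq, map_add, map_mul, dehom_X_self, one_mul, hg, ← hj, dehom_X]

end general

section odd

variable (A : Type u) [CommRing A] (m : ℕ) (b : A)

/-- `∑ x_i y_i - b t²`. -/
noncomputable def polyOdd : MvPolynomial (Fin (2 * m + 1)) A :=
  ∑ i : Fin m, X (lo m i).succ * X (hi m i).succ - C b * X 0 ^ 2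

theorem isHomogeneous_polyOdd : (polyOdd A m b).IsHomogeneous 2 := by
  refine IsHomogeneous.sub (IsHomogeneous.sum _ _ _ fun i _ => ?_) ?_
  · exact (isHomogeneous_X A _).mul (isHomogeneous_X A _)
  · simpa using (isHomogeneous_C (Fin (2 * m + 1)) b).mul ((isHomogeneous_X A (0 : Fin (2 * m + 1))).pow 2)

/-- The form. -/
noncomputable def formOdd : ↥(CohB1.polyGrading (2 * m) A 2) := ⟨polyOdd A m b, isHomogeneous_polyOdd A m b⟩

theorem dehom_formOdd : dehom (2 * m) A 0 (formOdd A m b).1 = VanCyc.quadPoly (stdT A m) - C b := by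
  change dehom (2 * m) A 0 (polyOdd A m b) = _
  rw [polyOdd, map_sub, map_sum, map_mul, dehom_C, map_pow, dehom_X_self, one_pow, mul_one,
    quadPoly_stdT]
  congr 1
  refine Finset.sum_congr rfl fun i _ => ?_
  rw [map_mul]
  have h (j : Fin (2 * m)) : dehom (2 * m) A 0 (X j.succ) = X j := by
    rw [← Fin.succAbove_zero_apply, dehom_X]
  rw [h, h]

theorem goodAt_odd (x : Hyp (formOdd A m b)) (hx : x ∉ Set.range (chartH (formOdd A m b) 0)) :
    GoodAt A (toSpec (formOdd A m b)) (chartH (formOdd A m b) 0) x := by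
  obtain ⟨k, hk⟩ := exists_mem_chartH (formOdd A m b) x
  have hk0 : k ≠ 0 := by
    rintro rfl
    exact hx hk
  obtain ⟨k, rfl⟩ := Fin.exists_succ_eq.2 hk0
  have hlh (i i' : Fin m) : lo m i ≠ hi m i' := by
    intro h
    have := congrArg Fin.val h
    simp only [lo, hi] at this
    omega
  rcases eq_lo_or_hi k with ⟨i, rfl⟩ | ⟨i, rfl⟩
  · refine goodAt_of_form _ (lo m i).succ (hi m i).succ (Fin.succ_ne_zero _) (Fin.succ_ne_zero _)
      (fun h => hlh i i (Fin.succ_injective _ h).symm)
      (∑ i' ∈ Finset.univ.erase i, X (lo m i').succ * X (hi m i').succ - C b * X 0 ^ 2) ?_ ?_ x hk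
    · change polyOdd A m b = _
      rw [polyOdd, ← Finset.add_sum_erase _ _ (Finset.mem_univ i)]
      ring
    · rw [map_sub, map_sum, map_mul, sub0_C, map_pow, sub0_X_ne _ _ (Fin.succ_ne_zero _).symm]
      congr 1
      refine Finset.sum_congr rfl fun i' hi' => ?_
      rw [map_mul, sub0_X_ne, sub0_X_ne]
      · exact fun h => (Finset.ne_of_mem_erase hi') (hi_injective (Fin.succ_injective _ h))
      · exact fun h => hlh _ _ (Fin.succ_injective _ h)
  · refine goodAt_of_form _ (hi m i).succ (lo m i).succ (Fin.succ_ne_zero _) (Fin.succ_ne_zero _)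
      (fun h => hlh i i (Fin.succ_injective _ h))
      (∑ i' ∈ Finset.univ.erase i, X (lo m i').succ * X (hi m i').succ - C b * X 0 ^ 2) ?_ ?_ x hk
    · change polyOdd A m b = _
      rw [polyOdd, ← Finset.add_sum_erase _ _ (Finset.mem_univ i)]
      ring
    · rw [map_sub, map_sum, map_mul, sub0_C, map_pow, sub0_X_ne _ _ (Fin.succ_ne_zero _).symm]
      congr 1
      refine Finset.sum_congr rfl fun i' hi' => ?_
      rw [map_mul, sub0_X_ne, sub0_X_ne]
      · exact fun h => hlh _ _ (Fin.succ_injective _ h).symm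
      · exact fun h => (Finset.ne_of_mem_erase hi') (lo_injective (Fin.succ_injective _ h))

end odd

section even

variable (A : Type u) [CommRing A] (m : ℕ) (b c : A)

/-- `w² + b w t + c t² + ∑ x_i y_i`. -/
noncomputable def polyEven : MvPolynomial (Fin (2 * m + 1 + 1)) A :=
  ∑ i : Fin m, X (lo m i).succ.succ * X (hi m i).succ.succ +
    (X 1 ^ 2 + C b * X 0 * X 1 + C c * X 0 ^ 2)

theorem isHomogeneous_polyEven : (polyEven A m b c).IsHomogeneous 2 := by
  refine IsHomogeneous.add (IsHomogeneous.sum _ _ _ fun i _ => ?_)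
    (IsHomogeneous.add (IsHomogeneous.add ?_ ?_) ?_)
  · exact (isHomogeneous_X A _).mul (isHomogeneous_X A _)
  · simpa using (isHomogeneous_X A (1 : Fin (2 * m + 1 + 1))).pow 2
  · simpa using ((isHomogeneous_C (Fin (2 * m + 1 + 1)) b).mul
      (isHomogeneous_X A (0 : Fin (2 * m + 1 + 1)))).mul (isHomogeneous_X A (1 : Fin (2 * m + 1 + 1)))
  · simpa using (isHomogeneous_C (Fin (2 * m + 1 + 1)) c).mul
      ((isHomogeneous_X A (0 : Fin (2 * m + 1 + 1))).pow 2)

/-- The form. -/
noncomputable def formEven : ↥(CohB1.polyGrading (2 * m + 1) A 2) :=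
  ⟨polyEven A m b c, isHomogeneous_polyEven A m b c⟩

theorem dehom_formEven [IsLocalRing A] :
    dehom (2 * m + 1) A 0 (formEven A m b c).1 = VanCyc.degQuadPoly A (stdT A m) b c := by
  change dehom (2 * m + 1) A 0 (polyEven A m b c) = _
  have h (j : Fin (2 * m + 1)) : dehom (2 * m + 1) A 0 (X j.succ) = X j := by
    rw [← Fin.succAbove_zero_apply, dehom_X]
  have h1 : dehom (2 * m + 1) A 0 (X 1) = X 0 := h 0
  rw [polyEven, VanCyc.degQuadPoly, quadPoly_stdT]
  simp only [map_add, map_sum, map_mul, map_pow, dehom_C, dehom_X_self, h, h1, rename_X]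
  ring

theorem goodAt_even (x : Hyp (formEven A m b c)) (hx : x ∉ Set.range (chartH (formEven A m b c) 0)) :
    GoodAt A (toSpec (formEven A m b c)) (chartH (formEven A m b c) 0) x := by
  have hlh (i i' : Fin m) : lo m i ≠ hi m i' := by
    intro h
    have := congrArg Fin.val h
    simp only [lo, hi] at this
    omega
  have inj2 {a b : Fin (2 * m)} (h : a.succ.succ = b.succ.succ) : a = b :=
    Fin.succ_injective _ (Fin.succ_injective _ h)
  have hne1 (j : Fin (2 * m)) : (1 : Fin (2 * m + 1 + 1)) ≠ j.succ.succ := fun h =>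
    (Fin.succ_ne_zero j).symm (Fin.succ_injective _ h)
  have key (j : Fin (2 * m)) (hk : x ∈ (chartH (formEven A m b c) j.succ.succ).opensRange) :
      GoodAt A (toSpec (formEven A m b c)) (chartH (formEven A m b c) 0) x := by
    rcases eq_lo_or_hi j with ⟨i, rfl⟩ | ⟨i, rfl⟩
    · refine goodAt_of_form _ (lo m i).succ.succ (hi m i).succ.succ (Fin.succ_ne_zero _)
        (Fin.succ_ne_zero _) (fun h => hlh i i (inj2 h).symm)
        (∑ i' ∈ Finset.univ.erase i, X (lo m i').succ.succ * X (hi m i').succ.succ +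
          (X 1 ^ 2 + C b * X 0 * X 1 + C c * X 0 ^ 2)) ?_ ?_ x hk
      · change polyEven A m b c = _
        rw [polyEven, ← Finset.add_sum_erase _ _ (Finset.mem_univ i)]
        ring
      · simp only [map_add, map_sum, map_mul, sub0_C, map_pow, sub0_X_ne _ _ (Fin.succ_ne_zero _).symm,
          sub0_X_ne _ _ (hne1 _)]
        congr 1
        refine Finset.sum_congr rfl fun i' hi' => ?_
        rw [sub0_X_ne, sub0_X_ne]
        · exact fun h => (Finset.ne_of_mem_erase hi') (hi_injective (inj2 h))
        · exact fun h => hlh _ _ (inj2 h)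
    · refine goodAt_of_form _ (hi m i).succ.succ (lo m i).succ.succ (Fin.succ_ne_zero _)
        (Fin.succ_ne_zero _) (fun h => hlh i i (inj2 h))
        (∑ i' ∈ Finset.univ.erase i, X (lo m i').succ.succ * X (hi m i').succ.succ +
          (X 1 ^ 2 + C b * X 0 * X 1 + C c * X 0 ^ 2)) ?_ ?_ x hk
      · change polyEven A m b c = _
        rw [polyEven, ← Finset.add_sum_erase _ _ (Finset.mem_univ i)]
        ring
      · simp only [map_add, map_sum, map_mul, sub0_C, map_pow, sub0_X_ne _ _ (Fin.succ_ne_zero _).symm,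
          sub0_X_ne _ _ (hne1 _)]
        congr 1
        refine Finset.sum_congr rfl fun i' hi' => ?_
        rw [sub0_X_ne, sub0_X_ne]
        · exact fun h => hlh _ _ (inj2 h).symm
        · exact fun h => (Finset.ne_of_mem_erase hi') (lo_injective (inj2 h))
  obtain ⟨k, hk⟩ := exists_mem_chartH (formEven A m b c) x
  have hk0 : k ≠ 0 := by
    rintro rfl
    exact hx hk
  obtain ⟨k, rfl⟩ := Fin.exists_succ_eq.2 hk0
  rcases Fin.eq_zero_or_eq_succ k with rfl | ⟨j, rfl⟩
  · obtain ⟨y, rfl⟩ := hk
    -- the chart `w ≠ 0`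
    have h0 : Ideal.Quotient.mk (Ideal.span {dehom (2 * m + 1) A 1 (formEven A m b c).1})
        (dehom (2 * m + 1) A 1 (X 0)) ∈ y.asIdeal := by
      by_contra h
      exact hx ((mem_chartH_iff (formEven A m b c) 1 0 y).2 h)
    have h1 : ∃ i, Ideal.Quotient.mk (Ideal.span {dehom (2 * m + 1) A 1 (formEven A m b c).1})
        (dehom (2 * m + 1) A 1 (X (lo m i).succ.succ)) ∉ y.asIdeal := by
      by_contra hc
      simp only [not_exists, not_not] at hc
      apply y.isPrime.ne_top
      rw [Ideal.eq_top_iff_one]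
      have h2 : Ideal.Quotient.mk (Ideal.span {dehom (2 * m + 1) A 1 (formEven A m b c).1})
          (dehom (2 * m + 1) A 1 (polyEven A m b c)) = 0 := by
        rw [Ideal.Quotient.eq_zero_iff_mem]
        exact Ideal.mem_span_singleton_self _
      have h3 : (1 : ChR (formEven A m b c) 1) = - (∑ i : Fin m,
          Ideal.Quotient.mk (Ideal.span {dehom (2 * m + 1) A 1 (formEven A m b c).1})
            (dehom (2 * m + 1) A 1 (X (lo m i).succ.succ)) *
          Ideal.Quotient.mk (Ideal.span {dehom (2 * m + 1) A 1 (formEven A m b c).1})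
            (dehom (2 * m + 1) A 1 (X (hi m i).succ.succ)) +
          (Ideal.Quotient.mk (Ideal.span {dehom (2 * m + 1) A 1 (formEven A m b c).1})
            (dehom (2 * m + 1) A 1 (X 0)) * (Ideal.Quotient.mk _ (C b) +
            Ideal.Quotient.mk _ (C c) * Ideal.Quotient.mk _ (dehom (2 * m + 1) A 1 (X 0))))) := by
        rw [eq_neg_iff_add_eq_zero, ← h2, polyEven]
        simp only [map_add, map_sum, map_mul, map_pow, dehom_C, dehom_X_self, map_one]
        ring
      have h4 : ∀ z : ChR (formEven A m b c) 1, (1 : ChR (formEven A m b c) 1) = z →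
          z ∈ y.asIdeal → (1 : ChR (formEven A m b c) 1) ∈ y.asIdeal := fun z hz hm => hz.symm ▸ hm
      exact h4 _ h3 (neg_mem (add_mem (sum_mem fun i _ => Ideal.mul_mem_right _ _ (hc i))
        (Ideal.mul_mem_right _ _ h0)))
    obtain ⟨i, hi⟩ := h1
    exact key (lo m i) ((mem_chartH_iff (formEven A m b c) 1 _ y).2 hi)
  · exact key j hk

end even

end Groth.Agent.Vancyc.H680.ModelGeom
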