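import Groth.Agent.Vancyc.H680.ModelAlg
import Groth.Agent.Vancyc.H680.ModelGeom
import Groth.Agent.Vancyc.H680.CompactVan
import Groth.Agent.Vancyc.H680.LocalGlobal
import Groth.Agent.Vancyc.H680.GoodFibre
import Groth.Agent.Vancyc.H687.Cone
import Groth.Agent.Etcore.HpullEq

/-!
# Local = global for the split quadric models

`R` a strictly henselian discrete valuation ring, `f` one of the split models
`H694.StdT.modelOdd R m b` (`0 ≠ b ∈ 𝔪`), `H694.StdT.modelEven R m b c` (`0 ≠ b² - 4c ∈ 𝔪`), `ξ` the geometric point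
`ptOdd`, `ptEven` over the singular point, `g` a geometric point of `Spec R`, `h : P ⟶ Y` the base change of `g`:
all `R^q h_* ℤ/N` are good at `ξ`, hence `(R^q h_* ℤ/N)_ξ ≃ H^q(P, ℤ/N)`.
-/

set_option autoImplicit false
universe u
open CategoryTheory CategoryTheory.Limits AlgebraicGeometry Opposite MvPolynomial

namespace Groth.Agent.Vancyc.H680.Model

open Germ GoodAbs HypSmooth HypPoint ModelAlg ModelGeom Groth.Agent.Vancyc.H694.StdT
open Groth.Agent.Lefpen.H713.HypProj Groth.Agent.Sga5.ProjChart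
open Groth.Agent.Vancyc.H686.Van

section van

variable (R : Type u) [CommRing R] [HenselianLocalRing R] [IsSepClosed (IsLocalRing.ResidueField R)]
  (m : ℕ) (b c : R) {N : ℕ} (hN : IsUnit (N : R))

theorem van_chart {n d : ℕ} (q : ↥(CohB1.polyGrading n R d)) (F : MvPolynomial (Fin n) R)
    (hF : dehom n R 0 q.1 = F) (hN : IsUnit (N : R))
    (hgood : ∀ x : Hyp q, x ∉ Set.range (chartH q 0) → CompactVan.GoodAt R (toSpec q) (chartH q 0) x) :
    Van N (str F) := by
  subst hF
  have h := CompactVan.van R N hN (toSpec q) (chartH q 0) (fun x _ hx => hgood x hx)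
  rwa [chartH_toSpec] at h

include hN

/-- Sheaves on `Spec R` without cohomology pull back to sheaves without cohomology on the odd model. -/
theorem van_odd : Van N (modelOdd R m b) :=
  van_chart R (formOdd R m b) _ (dehom_formOdd R m b) hN (goodAt_odd R m b)

/-- Sheaves on `Spec R` without cohomology pull back to sheaves without cohomology on the even model. -/
theorem van_even : Van N (modelEven R m b c) :=
  van_chart R (formEven R m b c) _ (dehom_formEven R m b c) hN (goodAt_even R m b c)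

end van

section cone

variable {K : Type u} [Field K] {σ : Type} [Fintype σ] (G : MvPolynomial σ K) (hG : G.IsHomogeneous 2)

omit [Fintype σ] in
include hG in
theorem vertex_aux : aeval (fun _ : σ => (0 : K)) G = 0 := by
  have h1 : aeval (fun _ : σ => (0 : K)) G = constantCoeff G := by
    rw [← MvPolynomial.eval_zero']
    rfl
  rw [h1]
  exact hG.coeff_eq_zero (by simp)

/-- The vertex. -/
noncomputable def vertex : (MvPolynomial σ K ⧸ Ideal.span {G}) →ₐ[K] K :=
  Ideal.Quotient.liftₐ _ (aeval fun _ : σ => (0 : K)) fun p hp => by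
    have h : Ideal.span {G} ≤ RingHom.ker (aeval (fun _ : σ => (0 : K)) : MvPolynomial σ K →ₐ[K] K) := by
      rw [Ideal.span_singleton_le_iff_mem, RingHom.mem_ker]
      exact vertex_aux G hG
    exact h hp

include hG in
/-- The cone has the cohomology of a point. -/
theorem H_cone [IsSepClosed K] {N : ℕ} (hN : (N : K) ≠ 0) :
    (∀ q, 0 < q → Subsingleton (EtCoh.H (Spec (CommRingCat.of (MvPolynomial σ K ⧸ Ideal.span {G})))
      (EtCoh.const _ (ZMod N)) q)) ∧
      Nat.card (EtCoh.H (Spec (CommRingCat.of (MvPolynomial σ K ⧸ Ideal.span {G})))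
        (EtCoh.const _ (ZMod N)) 0) = N := by
  refine PointCoh.contractible (Spec.map (CommRingCat.ofHom (vertex G hG).toRingHom)) N fun q => ?_
  refine (Etcore.HpullCalc.bijective_Hpull_iff _ _ q).2 ?_
  refine H687.Cone.bijective_hp_vertex (Ideal.span {G}) ⟨{G}, rfl, fun p hp => ⟨2, ?_⟩⟩ (vertex G hG)
    (fun i => ?_) hN q
  · rw [Set.mem_singleton_iff.1 hp]
    exact hG
  · exact (aeval_X _ i)

end cone

section final

variable (R : Type u) [CommRing R] [IsDomain R] [IsDiscreteValuationRing R] [HenselianLocalRing R]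
  [IsSepClosed (IsLocalRing.ResidueField R)] {σ : Type} [Fintype σ] (F : MvPolynomial σ R)
  (a : σ → KK R) (ha : eval₂Hom (toKK R) a F = 0) {N : ℕ} (hN : IsUnit (N : R))
  (hV : Van N (str F)) (G : MvPolynomial σ (KK R)) (hG2 : G.IsHomogeneous 2)
  (hG : eval₂Hom ((C : KK R →+* MvPolynomial σ (KK R)).comp (toKK R)) (fun i => X i + C (a i)) F = G)
  (hpd : ∀ y, y ≠ x0 F a ha → ∃ i, Ideal.Quotient.mk (Ideal.span {F}) (pderiv i F) ∉ PrimeSpectrum.asIdeal y)

include hN hV hG2 hG

theorem good_const : Good (germNat (xi F a ha)) (EtCoh.const _ (ZMod N)) := by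
  have hNK : ((N : ℕ) : KK R) ≠ 0 := by
    have h := hN.map (toKK R)
    rw [map_natCast] at h
    exact h.ne_zero
  refine GoodFibre.good_const_of_fibre R (str F) hV (TransBC.isPullback (toKK R) a F G hG)
    (LocalGlobal.pos_of_isUnit hN) (H_cone G hG2 hNK) (xi F a ha)

variable {Ω : Type u} [Field Ω] [IsSepClosed Ω] {g : Spec (CommRingCat.of Ω) ⟶ Spec (CommRingCat.of R)}
  {P : Scheme.{u}} {h : P ⟶ Spec (CommRingCat.of (MvPolynomial σ R ⧸ Ideal.span {F}))}
  {e : P ⟶ Spec (CommRingCat.of Ω)} (hsq : IsPullback e h g (str F))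

include hpd hsq

theorem good_Rpush (q : ℕ) : Good (germNat (xi F a ha)) ((EtCoh.Rpush h q).obj (EtCoh.const P (ZMod N))) := by
  have hcl := isClosed_x0 F a ha
  let U : (Spec (CommRingCat.of (MvPolynomial σ R ⧸ Ideal.span {F}))).Opens :=
    ⟨{x0 F a ha}ᶜ, hcl.isOpen_compl⟩
  have hsc := SepPoint.isSepClosed_residueField (str F) (x0 F a ha) hcl (str_x0 F a ha)
  refine LocalGlobal.good_Rpush R (str F) hN (xi F a ha) (str_x0 F a ha) hV hcl hsc U.ι
    (fun y hy => ?_) ?_ (good_const R F a ha hN hV G hG2 hG) hsq q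
  · rw [Scheme.Opens.range_ι]
    exact hy
  · refine smooth_comp F U.ι fun y hy => hpd y ?_
    rw [Scheme.Opens.range_ι] at hy
    exact hy

theorem stalk_equiv (q : ℕ) :
    Nonempty (((EtCoh.stalk (xi F a ha)).obj ((EtCoh.Rpush h q).obj (EtCoh.const P (ZMod N))) :
      AddCommGrpCat.{u + 1}) ≃+ EtCoh.H P (EtCoh.const P (ZMod N)) q) :=
  Germ.stalk_Rpush_equiv (xi F a ha) h _ (good_Rpush R F a ha hN hV G hG2 hG hpd hsq) q

end final

section models

variable (R : Type u) [CommRing R] [IsDomain R] [IsDiscreteValuationRing R] [HenselianLocalRing R]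
  [IsSepClosed (IsLocalRing.ResidueField R)] (m : ℕ) (b c : R) {N : ℕ} (hN : IsUnit (N : R))

/-- The geometric point of the odd model over the origin of the closed fibre. -/
noncomputable abbrev ptOdd (hb : b ∈ IsLocalRing.maximalIdeal R) : Spec (CommRingCat.of (KK R)) ⟶
    Spec (CommRingCat.of (VanCyc.quadRing R (stdT R m) b)) :=
  xi (FO m b) (fun _ => 0) (ev_FO m b hb)

/-- The geometric point of the even model over the singular point of the closed fibre. -/
noncomputable abbrev ptEven : Spec (CommRingCat.of (KK R)) ⟶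
    Spec (CommRingCat.of (VanCyc.degQuadRing R (stdT R m) b c)) :=
  xi (FE m b c) (coords m (root b c)) (ev_FE m b c)

include hN

theorem good_Rpush_odd (hb0 : b ≠ 0) (hb : b ∈ IsLocalRing.maximalIdeal R)
    {Ω : Type u} [Field Ω] [IsSepClosed Ω] {g : Spec (CommRingCat.of Ω) ⟶ Spec (CommRingCat.of R)}
    {P : Scheme.{u}} {h : P ⟶ Spec (CommRingCat.of (VanCyc.quadRing R (stdT R m) b))}
    {e : P ⟶ Spec (CommRingCat.of Ω)} (hsq : IsPullback e h g (modelOdd R m b)) (q : ℕ) :
    Good (germNat (ptOdd R m b hb)) ((EtCoh.Rpush h q).obj (EtCoh.const P (ZMod N))) :=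
  good_Rpush R (FO m b) _ (ev_FO m b hb) hN (van_odd R m b hN) _ (isHomogeneous_quadPoly (KK R) m)
    (trans_FO m b hb) (odd_exists_pderiv m b hb0 hb) hsq q

theorem good_Rpush_even (hΔ0 : b ^ 2 - 4 * c ≠ 0) (hΔ : b ^ 2 - 4 * c ∈ IsLocalRing.maximalIdeal R)
    {Ω : Type u} [Field Ω] [IsSepClosed Ω] {g : Spec (CommRingCat.of Ω) ⟶ Spec (CommRingCat.of R)}
    {P : Scheme.{u}} {h : P ⟶ Spec (CommRingCat.of (VanCyc.degQuadRing R (stdT R m) b c))}
    {e : P ⟶ Spec (CommRingCat.of Ω)} (hsq : IsPullback e h g (modelEven R m b c)) (q : ℕ) :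
    Good (germNat (ptEven R m b c)) ((EtCoh.Rpush h q).obj (EtCoh.const P (ZMod N))) :=
  good_Rpush R (FE m b c) _ (ev_FE m b c) hN (van_even R m b c hN) _ (isHomogeneous_GE m (KK R))
    (trans_FE m b c hΔ) (even_exists_pderiv m b c hΔ0 hΔ) hsq q

/-- **Local = global for the odd model.** -/
theorem stalk_equiv_odd (hb0 : b ≠ 0) (hb : b ∈ IsLocalRing.maximalIdeal R)
    {Ω : Type u} [Field Ω] [IsSepClosed Ω] {g : Spec (CommRingCat.of Ω) ⟶ Spec (CommRingCat.of R)}
    {P : Scheme.{u}} {h : P ⟶ Spec (CommRingCat.of (VanCyc.quadRing R (stdT R m) b))}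
    {e : P ⟶ Spec (CommRingCat.of Ω)} (hsq : IsPullback e h g (modelOdd R m b)) (q : ℕ) :
    Nonempty (((EtCoh.stalk (ptOdd R m b hb)).obj ((EtCoh.Rpush h q).obj (EtCoh.const P (ZMod N))) :
      AddCommGrpCat.{u + 1}) ≃+ EtCoh.H P (EtCoh.const P (ZMod N)) q) :=
  Germ.stalk_Rpush_equiv _ h _ (good_Rpush_odd R m b hN hb0 hb hsq) q

/-- **Local = global for the even model.** -/
theorem stalk_equiv_even (hΔ0 : b ^ 2 - 4 * c ≠ 0) (hΔ : b ^ 2 - 4 * c ∈ IsLocalRing.maximalIdeal R)
    {Ω : Type u} [Field Ω] [IsSepClosed Ω] {g : Spec (CommRingCat.of Ω) ⟶ Spec (CommRingCat.of R)}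
    {P : Scheme.{u}} {h : P ⟶ Spec (CommRingCat.of (VanCyc.degQuadRing R (stdT R m) b c))}
    {e : P ⟶ Spec (CommRingCat.of Ω)} (hsq : IsPullback e h g (modelEven R m b c)) (q : ℕ) :
    Nonempty (((EtCoh.stalk (ptEven R m b c)).obj ((EtCoh.Rpush h q).obj (EtCoh.const P (ZMod N))) :
      AddCommGrpCat.{u + 1}) ≃+ EtCoh.H P (EtCoh.const P (ZMod N)) q) :=
  Germ.stalk_Rpush_equiv _ h _ (good_Rpush_even R m b c hN hΔ0 hΔ hsq) q

end models

end Groth.Agent.Vancyc.H680.Model
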