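import Groth.Prelude.Def_VanCyc
import Groth.Agent.EtpbcB.HRel

/-!
# Galois action and restriction from the total space

For `σ ∈ Aut_K(Ω)` the action `VanCyc.galH f σ F q` on `H^q(X_ηbar, jbar^* F)` fixes every class
which is restricted from `X`.
-/

set_option autoImplicit false
universe u
open CategoryTheory CategoryTheory.Limits AlgebraicGeometry

namespace Groth.Agent.Vancyc.H680.GalGlue

variable {R : Type u} [CommRing R] {K : Type u} [Field K] [Algebra R K] {Ω : Type u} [Field Ω]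
  [Algebra K Ω] [Algebra R Ω] [IsScalarTower R K Ω]
  {X : Scheme.{u}} (f : X ⟶ Spec (CommRingCat.of R))

/-- Classes restricted from `X` are fixed by the Galois action. -/
theorem galH_Hpull (σ : Ω ≃ₐ[K] Ω) [PreservesFiniteLimits (EtCoh.pull (VanCyc.galGeom f σ))]
    [PreservesFiniteLimits (EtCoh.pull (VanCyc.jA R f Ω))]
    (F : EtCoh.Ab X) (q : ℕ) (e : EtCoh.H X F q) :
    VanCyc.galH f σ F q (EtCore.Hpull (VanCyc.jA R f Ω) F q e) =
      EtCore.Hpull (VanCyc.jA R f Ω) F q e :=
  EtpbcB.HRel.Hpull_comp (VanCyc.galGeom f σ) (VanCyc.jA R f Ω) (VanCyc.jA R f Ω)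
    (VanCyc.galGeom_jA f σ) F q e

/-- If every class is restricted from `X`, the Galois action is trivial. -/
theorem galH_eq_id_of_surjective (σ : Ω ≃ₐ[K] Ω)
    [PreservesFiniteLimits (EtCoh.pull (VanCyc.galGeom f σ))]
    [PreservesFiniteLimits (EtCoh.pull (VanCyc.jA R f Ω))]
    (F : EtCoh.Ab X) (q : ℕ)
    (h : Function.Surjective (EtCore.Hpull (VanCyc.jA R f Ω) F q)) :
    VanCyc.galH f σ F q = AddMonoidHom.id _ := by
  ext x
  obtain ⟨e, rfl⟩ := h x
  exact galH_Hpull f σ F q e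

end Groth.Agent.Vancyc.H680.GalGlue
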