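import Groth.Agent.Vancyc.H680.GoodConst
import Groth.Agent.Etcore.NormalAcyclic
import Groth.Agent.Etcore.HpullCalc

/-!
# Cohomology of a separably closed field with constant coefficients, and contractible schemes
-/

set_option autoImplicit false
universe u
open CategoryTheory CategoryTheory.Limits AlgebraicGeometry Opposite

namespace Groth.Agent.Vancyc.H680.PointCoh

open Groth.Agent.EtpbcB.SepClosedPoint Germ

variable {K : Type u} [Field K] [IsSepClosed K]

theorem H_subsingleton (F : EtCoh.Ab (Spec (CommRingCat.of K))) (q : ℕ) (hq : 0 < q) :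
    Subsingleton (EtCoh.H (Spec (CommRingCat.of K)) F q) := by
  rw [← isZero_rightDerived_iff]
  obtain ⟨n, rfl⟩ : ∃ n, q = n + 1 := ⟨q - 1, by omega⟩
  have : PreservesFiniteColimits (Γtop (Spec (CommRingCat.of K))) :=
    preservesFiniteColimits_of_natIso (gammaIsoStalk K).symm
  exact Etcore.NormalAcyclic.isZero_rightDerived_of_exact _ _ _

theorem card_H_zero (F : EtCoh.Ab (Spec (CommRingCat.of K))) :
    Nat.card (EtCoh.H (Spec (CommRingCat.of K)) F 0) =
      Nat.card ((EtCoh.stalk (pt K)).obj F : AddCommGrpCat.{u + 1}) := by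
  refine (Nat.card_congr (Sheaf.H.equiv₀ F (EtCore.topIsTerminal _)).toEquiv).trans ?_
  exact Nat.card_congr ((gammaIsoStalk K).app F).addCommGroupIsoToAddEquiv.toEquiv

theorem card_H_zero_const (N : ℕ) :
    Nat.card (EtCoh.H (Spec (CommRingCat.of K)) (EtCoh.const _ (ZMod N)) 0) = N := by
  rw [card_H_zero, Etcore.PrimeFilt.card_stalk_const, Nat.card_zmod]

/-- Cohomology of a scheme with the cohomology of a point. -/
theorem contractible {X : Scheme.{u}} (v : Spec (CommRingCat.of K) ⟶ X) (N : ℕ)
    [PreservesFiniteLimits (EtCoh.pull v)]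
    (hv : ∀ q, Function.Bijective (EtCore.Hpull v (EtCoh.const X (ZMod N)) q)) :
    (∀ q, 0 < q → Subsingleton (EtCoh.H X (EtCoh.const X (ZMod N)) q)) ∧
      Nat.card (EtCoh.H X (EtCoh.const X (ZMod N)) 0) = N := by
  refine ⟨fun q hq => ?_, ?_⟩
  · have := H_subsingleton ((EtCoh.pull v).obj (EtCoh.const X (ZMod N))) q hq
    exact (hv q).1.subsingleton
  · refine (Nat.card_congr (Equiv.ofBijective _ (hv 0))).trans ?_
    refine Eq.trans ?_ (card_H_zero_const (K := K) N)
    rw [card_H_zero, card_H_zero]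
    exact Nat.card_congr (((EtCoh.stalk (pt K)).mapIso
      ((EtCore.pullConstIso v).app (AddCommGrpCat.of (ULift.{u + 1} (ZMod N))))).addCommGroupIsoToAddEquiv.toEquiv)

end Groth.Agent.Vancyc.H680.PointCoh
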