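import Groth.Agent.Sga4B.P1Geom441

/-!
# Morphisms to the affine and the projective line given by a function

`φ : A[T] →+* B`, `toLine φ : Spec B ⟶ 𝔸¹_A`; the point `toLine φ y` of the chart `v 0` of `P¹_A` lies in the
chart `v 1` iff `φ T` does not vanish at `y`.
-/

set_option autoImplicit false
universe u
open CategoryTheory CategoryTheory.Limits AlgebraicGeometry Opposite

namespace Groth.Agent.Vancyc.H680.CoordLine

open Groth.Agent.Sga4B.P1Geom

variable {A B : Type u} [CommRing A] [CommRing B] (φ : MvPolynomial I.{u} A →+* B)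

/-- The morphism to the affine line given by `φ`. -/
noncomputable def toLine : Spec (CommRingCat.of B) ⟶ 𝔸(I.{u}; Spec (CommRingCat.of A)) :=
  Spec.map (CommRingCat.ofHom φ) ≫ (AffineSpace.SpecIso I.{u} (CommRingCat.of A)).inv

theorem toLine_over : toLine φ ≫ (𝔸(I.{u}; Spec (CommRingCat.of A)) ↘ Spec (CommRingCat.of A)) =
    Spec.map (CommRingCat.ofHom (φ.comp MvPolynomial.C)) := by
  rw [toLine, Category.assoc, AffineSpace.SpecIso_inv_over, ← Spec.map_comp, ← CommRingCat.ofHom_comp]

theorem smooth_toLine (h : φ.Smooth) : Smooth (toLine φ) := by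
  have h1 : Smooth (Spec.map (CommRingCat.ofHom φ)) :=
    (HasRingHomProperty.Spec_iff (P := @Smooth)).2 h
  unfold toLine
  infer_instance

theorem ker_eval_zero : RingHom.ker (MvPolynomial.eval (0 : I.{u} → A)) =
    Ideal.span {(MvPolynomial.X ⟨0⟩ : MvPolynomial I.{u} A)} := by
  apply le_antisymm
  · intro q hq
    have hq' : q - MvPolynomial.C (MvPolynomial.eval (0 : I.{u} → A) q) ∈
        Ideal.span {(MvPolynomial.X ⟨0⟩ : MvPolynomial I.{u} A)} := by
      clear hq
      induction q using MvPolynomial.induction_on with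
      | C r => simp
      | add p q hp hq =>
        have := add_mem hp hq
        rw [map_add, map_add]
        convert this using 1
        ring
      | mul_X p j hp =>
        have hj : j = ⟨0⟩ := by
          obtain ⟨j⟩ := j
          obtain rfl : j = 0 := Subsingleton.elim _ _
          rfl
        subst hj
        have : (MvPolynomial.eval (0 : I.{u} → A)) (p * MvPolynomial.X ⟨0⟩) = 0 := by simp
        rw [this, map_zero, sub_zero]
        exact Ideal.mul_mem_left _ _ (Ideal.subset_span rfl)
    have h0 : MvPolynomial.eval (0 : I.{u} → A) q = 0 := hq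
    rw [h0, map_zero, sub_zero] at hq'
    exact hq'
  · rw [Ideal.span_singleton_le_iff_mem, RingHom.mem_ker]
    simp

theorem mem_range_zeroSec_iff (y : Spec (CommRingCat.of B)) :
    toLine φ y ∈ Set.range (zeroSec (Spec (CommRingCat.of A))) ↔ φ (MvPolynomial.X ⟨0⟩) ∈ y.asIdeal := by
  have hr : Set.range (Spec.map (CommRingCat.ofHom (MvPolynomial.eval (0 : I.{u} → A)))) =
      PrimeSpectrum.zeroLocus (RingHom.ker (MvPolynomial.eval (0 : I.{u} → A))) :=
    _root_.range_comap_of_surjective _ _ (fun a => ⟨MvPolynomial.C a, by simp⟩)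
  have h1 : (AffineSpace.SpecIso I.{u} (CommRingCat.of A)).hom (toLine φ y) =
      Spec.map (CommRingCat.ofHom φ) y := by
    have h2 : toLine φ ≫ (AffineSpace.SpecIso I.{u} (CommRingCat.of A)).hom =
        Spec.map (CommRingCat.ofHom φ) := by
      rw [toLine, Category.assoc, Iso.inv_hom_id, Category.comp_id]
    rw [← Scheme.Hom.comp_apply, h2]
  have hz := zeroSec_SpecIso (CommRingCat.of A)
  have h3 : toLine φ y ∈ Set.range (zeroSec (Spec (CommRingCat.of A))) ↔
      Spec.map (CommRingCat.ofHom φ) y ∈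
        Set.range (Spec.map (CommRingCat.ofHom (MvPolynomial.eval (0 : I.{u} → A)))) := by
    rw [← h1]
    constructor
    · rintro ⟨z, hz'⟩
      refine ⟨z, ?_⟩
      rw [← hz']
      exact (congrArg (fun (k : Spec (CommRingCat.of A) ⟶ _) => k z) hz).symm
    · rintro ⟨z, hz'⟩
      refine ⟨z, ?_⟩
      apply (AffineSpace.SpecIso I.{u} (CommRingCat.of A)).hom.homeomorph.injective
      exact (congrArg (fun (k : Spec (CommRingCat.of A) ⟶ _) => k z) hz).trans hz'
  rw [h3, hr, ker_eval_zero, PrimeSpectrum.zeroLocus_span]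
  exact Set.singleton_subset_iff

/-- The point `toLine φ y` of the chart `v 0` lies in the chart `v 1` iff `φ T` does not vanish at `y`. -/
theorem mem_range_v_iff (y : Spec (CommRingCat.of B)) :
    v (Spec (CommRingCat.of A)) 0 (toLine φ y) ∈ Set.range (v (Spec (CommRingCat.of A)) 1) ↔
      φ (MvPolynomial.X ⟨0⟩) ∉ y.asIdeal := by
  have h1 : v (Spec (CommRingCat.of A)) 0 (toLine φ y) ∈ Set.range (v (Spec (CommRingCat.of A)) 1) ↔
      v (Spec (CommRingCat.of A)) 0 (toLine φ y) ∉ Set.range (P1.sect (Spec (CommRingCat.of A)) 0) := by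
    rw [range_sect]
    exact not_not.symm
  rw [h1, not_iff_not, ← mem_range_zeroSec_iff]
  have h2 := zeroSec_v (Spec (CommRingCat.of A)) 0
  constructor
  · rintro ⟨z, hz⟩
    refine ⟨z, ?_⟩
    apply (v (Spec (CommRingCat.of A)) 0).isOpenEmbedding.injective
    rw [← hz]
    exact congrArg (fun (k : Spec (CommRingCat.of A) ⟶ _) => k z) h2
  · rintro ⟨z, hz⟩
    refine ⟨z, ?_⟩
    rw [← hz]
    exact (congrArg (fun (k : Spec (CommRingCat.of A) ⟶ _) => k z) h2).symm

end Groth.Agent.Vancyc.H680.CoordLine
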