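import Groth.Agent.Cohder.RDAcyc
import Mathlib.Algebra.Homology.ShortComplex.PreservesHomology
import Mathlib.CategoryTheory.Abelian.RightDerived

/-!
# Degenerate Leray spectral sequences, in natural form

`G : B ⥤ C` left exact, `E : B ⥤ C` exact, `α : G ⟶ E`, `Θ : A ⥤ B` additive, `M : A`, such that
* `Θ J` is `G`-acyclic for `J` injective,
* for all `q`, `R^q Θ M` is `G`-acyclic and `α` is an isomorphism at `R^q Θ M`.
Then `R^q (Θ ⋙ G) M ⟶ R^q (Θ ⋙ E) M` is an isomorphism for all `q` (`isIso_rightDerived_app`).
-/

set_option autoImplicit false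
universe v₁ v₂ v₃ u₁ u₂ u₃

open CategoryTheory CategoryTheory.Limits

namespace Groth.Agent.Vancyc.H680.GoodEdge

open Cohder.RDAcyc

variable {A : Type u₁} {B : Type u₂} {C : Type u₃} [Category.{v₁} A] [Category.{v₂} B] [Category.{v₃} C]
  [Abelian A] [Abelian B] [Abelian C] [HasInjectiveResolutions A] [HasInjectiveResolutions B]

section acyc

variable (G : B ⥤ C) [G.Additive]

theorem IsAcyc.of_iso {X Y : B} (e : X ≅ Y) (h : IsAcyc G X) : IsAcyc G Y := fun i hi =>
  (h i hi).of_iso ((G.rightDerived i).mapIso e).symm

theorem isAcyc_of_isZero {X : B} (h : IsZero X) : IsAcyc G X := by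
  have : Injective X := h.injective
  exact isAcyc_injective G X

end acyc

section complex

variable (K : CochainComplex B ℕ)

/-- The object of boundaries in degree `n`. -/
noncomputable abbrev Bd (n : ℕ) : B := kernel (K.homologyπ n)

/-- `K^n ⟶ B^{n+1}`. -/
noncomputable abbrev toBd (n : ℕ) : K.X n ⟶ Bd K (n + 1) :=
  kernel.lift (K.homologyπ (n + 1)) (K.toCycles n (n + 1)) (K.toCycles_comp_homologyπ n (n + 1))

omit [HasInjectiveResolutions B] in
theorem toBd_ι (n : ℕ) : toBd K n ≫ kernel.ι (K.homologyπ (n + 1)) ≫ K.iCycles (n + 1) = K.d n (n + 1) := by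
  rw [kernel.lift_ι_assoc, K.toCycles_i]

omit [HasInjectiveResolutions B] in
theorem iCycles_toBd (n : ℕ) : K.iCycles n ≫ toBd K n = 0 := by
  rw [← cancel_mono (kernel.ι (K.homologyπ (n + 1)) ≫ K.iCycles (n + 1)), Category.assoc, toBd_ι,
    K.iCycles_d, zero_comp]

omit [HasInjectiveResolutions B] in
/-- `0 → Z^n → K^n → B^{n+1} → 0`. -/
theorem shortExact_cycles (n : ℕ) :
    (ShortComplex.mk (K.iCycles n) (toBd K n) (iCycles_toBd K n)).ShortExact := by
  have hepi : Epi (toBd K n) := by
    have hex : (ShortComplex.mk (K.toCycles n (n + 1)) (K.homologyπ (n + 1))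
        (K.toCycles_comp_homologyπ n (n + 1))).Exact :=
      ShortComplex.exact_of_g_is_cokernel _ (K.homologyIsCokernel n (n + 1) (by simp))
    exact hex.epi_kernelLift
  refine { exact := ?_, mono_f := inferInstanceAs (Mono (K.iCycles n)), epi_g := hepi }
  apply ShortComplex.exact_of_f_is_kernel
  refine KernelFork.IsLimit.ofι _ _
    (fun k hk => K.liftCycles k (n + 1) (by simp) ?_) (fun k hk => ?_) (fun k hk m hm => ?_)
  · dsimp at hk
    rw [← toBd_ι, ← Category.assoc, hk, zero_comp]
  · dsimp; simp
  · dsimp at hm ⊢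
    rw [← cancel_mono (K.iCycles n), hm]; simp

omit [HasInjectiveResolutions B] in
/-- `0 → B^n → Z^n → H^n → 0`. -/
theorem shortExact_homology (n : ℕ) : (ShortComplex.mk (kernel.ι (K.homologyπ n)) (K.homologyπ n)
    (kernel.condition _)).ShortExact where
  exact := ShortComplex.exact_kernel _
  mono_f := inferInstanceAs (Mono (kernel.ι _))
  epi_g := inferInstanceAs (Epi (K.homologyπ n))

omit [HasInjectiveResolutions B] in
theorem isZero_Bd_zero : IsZero (Bd K 0) := by
  have h : IsIso (K.homologyπ 0) := K.isIso_homologyπ 0 0 (by simp) (K.shape _ _ (by simp))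
  exact isZero_kernel_of_mono _

variable (G : B ⥤ C) [G.Additive] (hX : ∀ n, IsAcyc G (K.X n)) (hH : ∀ n, IsAcyc G (K.homology n))

include hX hH

theorem isAcyc_Bd_and_cycles (n : ℕ) : IsAcyc G (Bd K n) ∧ IsAcyc G (K.cycles n) := by
  have step : ∀ n, IsAcyc G (Bd K n) → IsAcyc G (K.cycles n) := fun n h =>
    isAcyc_X₂ G (shortExact_homology K n) h (hH n)
  induction n with
  | zero => exact ⟨isAcyc_of_isZero G (isZero_Bd_zero K), step 0 (isAcyc_of_isZero G (isZero_Bd_zero K))⟩
  | succ n ih =>
    have h1 : IsAcyc G (Bd K (n + 1)) := isAcyc_X₃ G (shortExact_cycles K n) ih.2 (hX n)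
    exact ⟨h1, step _ h1⟩

variable [PreservesFiniteLimits G]

/-- `G(K^{n}) → G(Z^{n+1}) → G(H^{n+1}) → 0` is exact. -/
theorem exact_map_succ (n : ℕ) : (ShortComplex.mk (G.map (K.toCycles n (n + 1))) (G.map (K.homologyπ (n + 1)))
    (by rw [← G.map_comp, K.toCycles_comp_homologyπ, G.map_zero])).Exact := by
  have h1 := map_shortExact G (shortExact_cycles K n) ((isAcyc_Bd_and_cycles K G hX hH n).2 1 one_pos)
  have h2 := map_shortExact G (shortExact_homology K (n + 1))
    ((isAcyc_Bd_and_cycles K G hX hH (n + 1)).1 1 one_pos)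
  refine exact_of_factor (G.map (toBd K n)) (G.map (kernel.ι (K.homologyπ (n + 1))))
    (G.map (K.homologyπ (n + 1))) (𝟙 _) (by rw [← G.map_comp, kernel.condition, G.map_zero])
    h2.exact h1.epi_g inferInstance _ _ ?_ (Category.comp_id _) _
  rw [← G.map_comp, kernel.lift_ι]

theorem epi_map (n : ℕ) : Epi (G.map (K.homologyπ n)) :=
  (map_shortExact G (shortExact_homology K n) ((isAcyc_Bd_and_cycles K G hX hH n).1 1 one_pos)).epi_g

omit [HasInjectiveResolutions A] [Abelian A] [Category.{v₁} A] in
theorem exact_map (i j : ℕ) (hij : (ComplexShape.up ℕ).prev j = i) :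
    (ShortComplex.mk (G.map (K.toCycles i j)) (G.map (K.homologyπ j))
    (by rw [← G.map_comp, K.toCycles_comp_homologyπ, G.map_zero])).Exact := by
  cases j with
  | succ m =>
    rw [CochainComplex.prev_nat_succ] at hij
    subst hij
    exact exact_map_succ K G hX hH m
  | zero =>
    have h : IsIso (K.homologyπ 0) := K.isIso_homologyπ 0 0 (by simp) (K.shape _ _ (by simp))
    have h1 : IsIso (G.map (K.homologyπ 0)) := inferInstance
    have h2 : G.map (K.toCycles i 0) = 0 := by
      have : K.toCycles i 0 = 0 := by
        rw [← cancel_mono (K.homologyπ 0), K.toCycles_comp_homologyπ, zero_comp]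
      rw [this, G.map_zero]
    rw [ShortComplex.exact_iff_mono _ h2]
    exact inferInstanceAs (Mono (G.map (K.homologyπ 0)))

end complex

section homology

/-- The left homology data given by cycles and homology. -/
noncomputable def canon (S : ShortComplex B) : S.LeftHomologyData where
  K := S.cycles
  H := S.homology
  i := S.iCycles
  π := S.homologyπ
  wi := S.iCycles_g
  hi := S.cyclesIsKernel
  wπ := by
    have h : S.cyclesIsKernel.lift (KernelFork.ofι S.f S.zero) = S.toCycles := by
      rw [← cancel_mono S.iCycles, S.toCycles_i]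
      exact S.cyclesIsKernel.fac _ WalkingParallelPair.zero
    rw [h, S.toCycles_comp_homologyπ]
  hπ := by
    have h : S.cyclesIsKernel.lift (KernelFork.ofι S.f S.zero) = S.toCycles := by
      rw [← cancel_mono S.iCycles, S.toCycles_i]
      exact S.cyclesIsKernel.fac _ WalkingParallelPair.zero
    exact CokernelCofork.IsColimit.ofπ _ _ (fun k hk => S.homologyIsCokernel.desc
      (CokernelCofork.ofπ k (by rw [← h]; exact hk)))
      (fun k hk => S.homologyIsCokernel.fac (CokernelCofork.ofπ k (by rw [← h]; exact hk))
        WalkingParallelPair.one)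
      (fun k hk m hm => by
        rw [← cancel_epi S.homologyπ]
        exact hm.trans (S.homologyIsCokernel.fac (CokernelCofork.ofπ k (by rw [← h]; exact hk))
          WalkingParallelPair.one).symm)

omit [HasInjectiveResolutions B] in
theorem canon_f' (S : ShortComplex B) : (canon S).f' = S.toCycles := by
  rw [← cancel_mono (canon S).i, (canon S).f'_i]
  exact S.toCycles_i.symm

variable (G : B ⥤ C) [G.Additive] [PreservesFiniteLimits G]

omit [HasInjectiveResolutions B] in
theorem canon_isPreservedBy (S : ShortComplex B)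
    (hex : (ShortComplex.mk (G.map S.toCycles) (G.map S.homologyπ)
      (by rw [← G.map_comp, S.toCycles_comp_homologyπ, G.map_zero])).Exact)
    (hepi : Epi (G.map S.homologyπ)) : (canon S).IsPreservedBy G where
  g := inferInstance
  f' := by
    refine preservesColimit_of_preserves_colimit_cocone (canon S).hπ' ?_
    apply (CokernelCofork.isColimitMapCoconeEquiv _ G).2
    have h : (ShortComplex.mk (G.map (canon S).f') (G.map (canon S).π)
      (by rw [← G.map_comp, (canon S).f'_π, G.map_zero])).Exact := by
      have e : G.map (canon S).f' = G.map S.toCycles := congrArg G.map (canon_f' S)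
      exact (ShortComplex.exact_iff_of_iso (ShortComplex.isoMk (Iso.refl _) (Iso.refl _) (Iso.refl _)
        (((Category.id_comp _).trans e).trans (Category.comp_id _).symm)
        ((Category.id_comp _).trans (Category.comp_id _).symm))).1 hex
    have : Epi (ShortComplex.mk (G.map (canon S).f') (G.map (canon S).π)
      (by rw [← G.map_comp, (canon S).f'_π, G.map_zero])).g := hepi
    exact h.gIsCokernel

end homology

section main

variable (G E : B ⥤ C) [G.Additive] [E.Additive] [PreservesFiniteLimits G] [PreservesFiniteLimits E]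
  [PreservesFiniteColimits E] (α : G ⟶ E)

/-- Comparison of the homology of `G K` and `E K`. -/
theorem isIso_homologyMap (K : CochainComplex B ℕ) (hX : ∀ n, IsAcyc G (K.X n))
    (hH : ∀ n, IsAcyc G (K.homology n)) (n : ℕ) (hα : IsIso (α.app (K.homology n))) :
    IsIso ((HomologicalComplex.homologyFunctor C (ComplexShape.up ℕ) n).map
      ((NatTrans.mapHomologicalComplex α _).app K)) := by
  have hE : E.PreservesHomology := inferInstance
  have h1 : (canon (K.sc n)).IsPreservedBy G := by
    refine canon_isPreservedBy G (K.sc n) ?_ (epi_map K G hX hH n)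
    have h := exact_map K G hX hH _ n rfl
    have e : K.toCycles ((ComplexShape.up ℕ).prev n) n = (K.sc n).toCycles := by
      rw [← cancel_mono (K.iCycles n), K.toCycles_i]
      exact (K.sc n).toCycles_i.symm
    exact (ShortComplex.exact_iff_of_iso (ShortComplex.isoMk (Iso.refl _) (Iso.refl _) (Iso.refl _)
        (((Category.id_comp _).trans (congrArg G.map e.symm)).trans (Category.comp_id _).symm)
        ((Category.id_comp _).trans (Category.comp_id _).symm))).1 h
  have h2 : (canon (K.sc n)).IsPreservedBy E := inferInstance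
  let γ : ShortComplex.LeftHomologyMapData ((K.sc n).mapNatTrans α) ((canon (K.sc n)).map G)
      ((canon (K.sc n)).map E) :=
    { φK := α.app _
      φH := α.app _
      commi := (α.naturality _).symm
      commf' := by
        have e1 := ShortComplex.LeftHomologyData.map_f' (canon (K.sc n)) G
        have e2 := ShortComplex.LeftHomologyData.map_f' (canon (K.sc n)) E
        rw [e1, e2]
        exact α.naturality _
      commπ := α.naturality _ }
  have h3 := γ.homologyMap_eq
  have h4 : IsIso γ.φH := hα
  have h5 : IsIso (ShortComplex.homologyMap ((K.sc n).mapNatTrans α)) := by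
    rw [h3]
    infer_instance
  exact h5

variable (Θ : A ⥤ B) [Θ.Additive]

/-- **Degenerate Leray spectral sequences.** -/
theorem isIso_rightDerived_app (M : A) (hΘ : ∀ J : A, Injective J → IsAcyc G (Θ.obj J))
    (hH : ∀ q, IsAcyc G ((Θ.rightDerived q).obj M)) (n : ℕ)
    (hα : IsIso (α.app ((Θ.rightDerived n).obj M))) :
    IsIso ((NatTrans.rightDerived (Functor.whiskerLeft Θ α) n).app M) := by
  let J := injectiveResolution M
  rw [InjectiveResolution.rightDerived_app_eq (Functor.whiskerLeft Θ α) J n]
  let K := (Θ.mapHomologicalComplex (ComplexShape.up ℕ)).obj J.cocomplex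
  have h1 : IsIso ((HomologicalComplex.homologyFunctor C (ComplexShape.up ℕ) n).map
      ((NatTrans.mapHomologicalComplex α _).app K)) := by
    refine isIso_homologyMap G E α K (fun i => hΘ _ (J.injective i)) (fun i => ?_) n ?_
    · exact IsAcyc.of_iso G (J.isoRightDerivedObj Θ i) (hH i)
    · exact (NatTrans.isIso_app_iff_of_iso α (J.isoRightDerivedObj Θ n)).1 hα
  have h2 : IsIso ((HomologicalComplex.homologyFunctor C (ComplexShape.up ℕ) n).map
        ((NatTrans.mapHomologicalComplex (Functor.whiskerLeft Θ α) _).app J.cocomplex)) := h1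
  infer_instance

end main

end Groth.Agent.Vancyc.H680.GoodEdge
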