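import Groth.Agent.Vancyc.H680.GoodAbs
import Groth.Agent.Vancyc.H680.GoodEdge
import Groth.Agent.EtpbcB.GammaRpush
import Groth.Agent.EtpbcB.HRel
import Groth.Agent.Etcore.StalkSec

/-!
# Étale sheaves whose cohomology is the stalk at one geometric point

`ξ` a geometric point of `Y`, `germNat ξ : Γ(Y, -) ⟶ (-)_ξ`.  `Good (germNat ξ) G` means `H^i(Y, G) = 0` for
`i > 0` and `Γ(Y, G) ≅ G_ξ`.  If `h : Y' ⟶ Y` and all `R^q h_* F'` are good then
`(R^q h_* F')_ξ ≃ H^q(Y', F')` (`stalk_Rpush_equiv`).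
-/

set_option autoImplicit false
universe u
open CategoryTheory CategoryTheory.Limits AlgebraicGeometry Opposite

namespace Groth.Agent.Vancyc.H680.Germ

open Groth.Agent.EtpbcB.SepClosedPoint Groth.Agent.EtpbcB.ExtRightDerived
  Groth.Agent.EtpbcB.GammaRpush
open Groth.Agent.Cohder.RDAcyc (IsAcyc isAcyc_injective)
open GoodAbs

variable {Y : Scheme.{u}} {Ω : Type u} [Field Ω] [IsSepClosed Ω] (ξ : Spec (CommRingCat.of Ω) ⟶ Y)

/-- The canonical element of the fibre of the final object. -/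
noncomputable def eltTop : (Scheme.pointSmallEtale ξ).fiber.obj (EtCoh.top Y) :=
  Over.homMk ξ (Category.comp_id _)

theorem elt_unique (x : (Scheme.pointSmallEtale ξ).fiber.obj (EtCoh.top Y)) : x = eltTop ξ := by
  apply Etcore.StalkSec.ext_hom
  have e1 : Etcore.StalkSec.hom ξ x = ξ :=
    (Category.comp_id _).symm.trans (Etcore.StalkSec.hom_comp ξ x)
  have e2 : Etcore.StalkSec.hom ξ (eltTop ξ) = ξ :=
    (Category.comp_id _).symm.trans (Etcore.StalkSec.hom_comp ξ (eltTop ξ))
  rw [e1, e2]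

/-- The germ at `ξ` of a global section. -/
noncomputable def germNat : Γtop Y ⟶ EtCoh.stalk ξ where
  app F := Etcore.StalkSec.germ ξ F (EtCoh.top Y) (eltTop ξ)
  naturality _ _ f := ((Scheme.pointSmallEtale ξ).toPresheafFiber_naturality f.hom _ _).symm

theorem germNat_app (F : EtCoh.Ab Y) :
    (germNat ξ).app F = Etcore.StalkSec.germ ξ F (EtCoh.top Y) (eltTop ξ) := rfl

theorem isZero_rightDerived_iff (F : EtCoh.Ab Y) (q : ℕ) :
    IsZero (((Γtop Y).rightDerived q).obj F) ↔ Subsingleton (EtCoh.H Y F q) := by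
  obtain ⟨e⟩ := H_rightDerived Y F q
  constructor
  · intro h
    have := AddCommGrpCat.subsingleton_of_isZero h
    exact e.injective.subsingleton
  · intro h
    have : Subsingleton (((Γtop Y).rightDerived q).obj F : AddCommGrpCat.{u + 1}) := e.symm.injective.subsingleton
    exact AddCommGrpCat.isZero_of_subsingleton _

theorem good_iff (F : EtCoh.Ab Y) : Good (germNat ξ) F ↔
    (∀ q, 0 < q → Subsingleton (EtCoh.H Y F q)) ∧
      Function.Bijective (Etcore.StalkSec.germ ξ F (EtCoh.top Y) (eltTop ξ)) := by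
  constructor
  · rintro ⟨h1, h2⟩
    exact ⟨fun q hq => (isZero_rightDerived_iff F q).1 (h1 q hq),
      (ConcreteCategory.isIso_iff_bijective _).1 h2⟩
  · rintro ⟨h1, h2⟩
    exact ⟨fun q hq => (isZero_rightDerived_iff F q).2 (h1 q hq),
      (ConcreteCategory.isIso_iff_bijective _).2 h2⟩

/-- Sheaves without cohomology and with zero stalk are good. -/
theorem good_of_subsingleton (F : EtCoh.Ab Y) (h : ∀ q, Subsingleton (EtCoh.H Y F q))
    (h0 : IsZero ((EtCoh.stalk ξ).obj F)) : Good (germNat ξ) F :=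
  good_of_isZero _ (fun q => (isZero_rightDerived_iff F q).2 (h q)) h0

/-- `push h` of an injective sheaf is acyclic for global sections. -/
theorem isAcyc_push {Y' : Scheme.{u}} (h : Y' ⟶ Y) [EtCoh.BCCont h] (J : EtCoh.Ab Y') (hJ : Injective J) :
    IsAcyc (Γtop Y) ((EtCoh.push h).obj J) := by
  have : PreservesFiniteLimits (EtCoh.pull h) := EtpbcB.HRel.pull_exact h
  have : Injective ((EtCoh.push h).obj J) := Injective.injective_of_adjoint (EtCoh.pullPushAdj h) J
  exact isAcyc_injective _ _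

/-- The comparison between the derived functors of `Γ(Y, h_* -) = Γ(Y', -)` and `(h_* -)_ξ`. -/
theorem isIso_rightDerived {Y' : Scheme.{u}} (h : Y' ⟶ Y) [EtCoh.BCCont h] (F' : EtCoh.Ab Y')
    (hgood : ∀ q, Good (germNat ξ) ((EtCoh.Rpush h q).obj F')) (q : ℕ) :
    IsIso ((NatTrans.rightDerived (Functor.whiskerLeft (EtCoh.push h) (germNat ξ)) q).app F') :=
  GoodEdge.isIso_rightDerived_app (Γtop Y) (EtCoh.stalk ξ) (germNat ξ) (EtCoh.push h) F'
    (fun J hJ => isAcyc_push h J hJ) (fun q => (hgood q).1) q (hgood q).2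

/-- **Local = global.** -/
theorem stalk_Rpush_equiv {Y' : Scheme.{u}} (h : Y' ⟶ Y) [EtCoh.BCCont h] (F' : EtCoh.Ab Y')
    (hgood : ∀ q, Good (germNat ξ) ((EtCoh.Rpush h q).obj F')) (q : ℕ) :
    Nonempty (((EtCoh.stalk ξ).obj ((EtCoh.Rpush h q).obj F') : AddCommGrpCat.{u + 1}) ≃+
      EtCoh.H Y' F' q) := by
  obtain ⟨e⟩ := H_rightDerived Y' F' q
  have h1 := isIso_rightDerived ξ h F' hgood q
  exact ⟨((rightDerivedCompExact (EtCoh.push h) (EtCoh.stalk ξ) q F').symm ≪≫
    (asIso ((NatTrans.rightDerived (Functor.whiskerLeft (EtCoh.push h) (germNat ξ)) q).app F')).symm ≪≫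
    (rightDerivedIso (gammaPush h) q).app F').addCommGroupIsoToAddEquiv.trans e.symm⟩

end Groth.Agent.Vancyc.H680.Germ
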