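import Groth.Agent.Cohder.RDAcyc
import Mathlib.CategoryTheory.Abelian.DiagramLemmas.Four

/-!
# Good objects for a natural transformation `α : G ⟶ E`, `G` left exact, `E` exact

`Good α X`: `X` is `G`-acyclic and `α` is an isomorphism at `X`.  Stability properties.
-/

set_option autoImplicit false
universe v₂ v₃ u₂ u₃

open CategoryTheory CategoryTheory.Limits

namespace Groth.Agent.Vancyc.H680.GoodAbs

open Cohder.RDAcyc

variable {B : Type u₂} {C : Type u₃} [Category.{v₂} B] [Category.{v₃} C]
  [Abelian B] [Abelian C] [HasInjectiveResolutions B]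
  {G E : B ⥤ C} [G.Additive] [E.Additive] [PreservesFiniteLimits G] [PreservesFiniteLimits E]
  [PreservesFiniteColimits E] (α : G ⟶ E)

/-- `X` is `G`-acyclic and `α` is an isomorphism at `X`. -/
def Good (X : B) : Prop := IsAcyc G X ∧ IsIso (α.app X)

omit [PreservesFiniteLimits G] [PreservesFiniteLimits E] [PreservesFiniteColimits E] [E.Additive] in
variable {α} in
theorem Good.of_iso {X Y : B} (e : X ≅ Y) (h : Good α X) : Good α Y :=
  ⟨fun i hi => (h.1 i hi).of_iso ((G.rightDerived i).mapIso e).symm,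
    (NatTrans.isIso_app_iff_of_iso α e).1 h.2⟩

omit [PreservesFiniteLimits E] [PreservesFiniteColimits E] [E.Additive] in
/-- Vanishing on both sides. -/
theorem good_of_isZero {X : B} (h : ∀ i, IsZero ((G.rightDerived i).obj X)) (hE : IsZero (E.obj X)) :
    Good α X := by
  refine ⟨fun i _ => h i, ?_⟩
  have h0 : IsZero (G.obj X) := (h 0).of_iso (G.rightDerivedZeroIsoSelf.app X).symm
  exact ⟨0, h0.eq_of_src _ _, hE.eq_of_src _ _⟩

section

variable {S : ShortComplex B} (hS : S.ShortExact)

include hS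

theorem Good.X₂ (h₁ : Good α S.X₁) (h₃ : Good α S.X₃) : Good α S.X₂ := by
  refine ⟨isAcyc_X₂ G hS h₁.1 h₃.1, ?_⟩
  have a1 : IsIso (S.mapNatTrans α).τ₁ := h₁.2
  have a3 : IsIso (S.mapNatTrans α).τ₃ := h₃.2
  exact ShortComplex.isIso₂_of_shortExact_of_isIso₁₃' (S.mapNatTrans α)
    (map_shortExact G hS (h₁.1 1 one_pos)) (hS.map_of_exact E) a1 a3

theorem Good.X₃ (h₁ : Good α S.X₁) (h₂ : Good α S.X₂) : Good α S.X₃ := by
  refine ⟨isAcyc_X₃ G hS h₁.1 h₂.1, ?_⟩
  have a1 : IsIso (S.mapNatTrans α).τ₁ := h₁.2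
  have a2 : IsIso (S.mapNatTrans α).τ₂ := h₂.2
  have hG := map_shortExact G hS (h₁.1 1 one_pos)
  have hE := hS.map_of_exact E
  have hm : Mono (S.mapNatTrans α).τ₃ :=
    ShortComplex.mono_of_epi_of_epi_of_mono (S.mapNatTrans α) hE.exact hG.epi_g inferInstance inferInstance
  have he : Epi (S.mapNatTrans α).τ₃ := by
    have h1 : Epi (S.map E).g := hE.epi_g
    have h2 : Epi ((S.mapNatTrans α).τ₂ ≫ (S.map E).g) := epi_comp _ _
    rw [(S.mapNatTrans α).comm₂₃] at h2
    exact epi_of_epi (S.map G).g (S.mapNatTrans α).τ₃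
  exact isIso_of_mono_of_epi (S.mapNatTrans α).τ₃

theorem Good.X₁ (h₂ : Good α S.X₂) (h₃ : Good α S.X₃) : Good α S.X₁ := by
  have hE := hS.map_of_exact E
  have a2 : IsIso (α.app S.X₂) := h₂.2
  have a3 : IsIso (α.app S.X₃) := h₃.2
  have a2' : IsIso (S.mapNatTrans α).τ₂ := h₂.2
  have a3' : IsIso (S.mapNatTrans α).τ₃ := h₃.2
  -- `G S.g` is epi
  have hepi : Epi (G.map S.g) := by
    have h1 : Epi (E.map S.g) := hE.epi_g
    have h2 : G.map S.g = α.app S.X₂ ≫ E.map S.g ≫ inv (α.app S.X₃) := by
      rw [← α.naturality_assoc, IsIso.hom_inv_id, Category.comp_id]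
    rw [h2]
    infer_instance
  have hex : (S.map G).Exact := by
    have := (G.preservesFiniteLimits_tfae.out 3 1 :)
    exact ((this.1 inferInstance) S ⟨hS.exact, hS.mono_f⟩).1
  have hmono : Mono (S.map G).f := by
    have hf := hS.mono_f
    exact inferInstanceAs (Mono (G.map S.f))
  constructor
  · intro i hi
    obtain ⟨m, rfl⟩ : ∃ m, i = m + 1 := ⟨i - 1, by lia⟩
    rcases Nat.eq_zero_or_pos m with rfl | hm
    · obtain ⟨δ, hδ⟩ := (Cohder.RDLES.exists_les G hS).2.2
      obtain ⟨w₁, w₂, h, h'⟩ := hδ 0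
      have e0 : Epi ((G.rightDerived 0).map S.g) := by
        have h6 : (G.rightDerived 0).map S.g ≫ G.rightDerivedZeroIsoSelf.hom.app S.X₃ =
          G.rightDerivedZeroIsoSelf.hom.app S.X₂ ≫ G.map S.g := G.rightDerivedZeroIsoSelf.hom.naturality _
        have h7 : (G.rightDerived 0).map S.g = (G.rightDerivedZeroIsoSelf.hom.app S.X₂ ≫ G.map S.g) ≫
            inv (G.rightDerivedZeroIsoSelf.hom.app S.X₃) := by
          rw [← h6, Category.assoc, IsIso.hom_inv_id, Category.comp_id]
        rw [h7]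
        infer_instance
      have hδ0 : δ 0 = 0 := by
        rw [← cancel_epi ((G.rightDerived 0).map S.g), comp_zero]
        exact w₁
      exact h'.isZero_of_both_zeros hδ0 ((h₂.1 1 one_pos).eq_of_tgt _ _)
    · exact isZero_X₁ G hS m (h₃.1 m hm) (h₂.1 (m + 1) (by lia))
  · have he : Epi (S.mapNatTrans α).τ₁ :=
      ShortComplex.epi_of_mono_of_epi_of_mono (S.mapNatTrans α) hex hE.mono_f inferInstance inferInstance
    have hm : Mono (S.mapNatTrans α).τ₁ := by
      have h2 : Mono ((S.map G).f ≫ (S.mapNatTrans α).τ₂) := mono_comp _ _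
      rw [← (S.mapNatTrans α).comm₁₂] at h2
      exact mono_of_mono _ (S.map E).f
    exact isIso_of_mono_of_epi (S.mapNatTrans α).τ₁

end

omit [HasInjectiveResolutions B] in
theorem shortExact_image {X Y : B} (f : X ⟶ Y) :
    (ShortComplex.mk (kernel.ι f) (Abelian.factorThruImage f) (by
      rw [← cancel_mono (Abelian.image.ι f), Category.assoc, Abelian.image.fac, kernel.condition,
        zero_comp])).ShortExact := by
  refine { exact := ?_, mono_f := inferInstance, epi_g := inferInstance }
  let φ : ShortComplex.mk (kernel.ι f) (Abelian.factorThruImage f) (by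
      rw [← cancel_mono (Abelian.image.ι f), Category.assoc, Abelian.image.fac, kernel.condition,
        zero_comp]) ⟶ ShortComplex.mk (kernel.ι f) f (kernel.condition f) :=
    { τ₁ := 𝟙 _
      τ₂ := 𝟙 _
      τ₃ := Abelian.image.ι f
      comm₁₂ := by simp
      comm₂₃ := by simp }
  have h1 : Epi φ.τ₁ := inferInstanceAs (Epi (𝟙 _))
  have h2 : IsIso φ.τ₂ := inferInstanceAs (IsIso (𝟙 _))
  have h3 : Mono φ.τ₃ := inferInstanceAs (Mono (Abelian.image.ι f))
  exact (ShortComplex.exact_iff_of_epi_of_isIso_of_mono φ).2 (ShortComplex.exact_kernel f)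

omit [HasInjectiveResolutions B] in
theorem shortExact_coimage {X Y : B} (f : X ⟶ Y) :
    (ShortComplex.mk (Abelian.image.ι f) (cokernel.π f) (kernel.condition _)).ShortExact :=
  { exact := ShortComplex.exact_of_f_is_kernel _ (kernelIsKernel (cokernel.π f))
    mono_f := inferInstance
    epi_g := inferInstance }

/-- If the kernel and the cokernel are good, goodness of the source implies goodness of the target. -/
theorem Good.tgt {X Y : B} (f : X ⟶ Y) (hk : Good α (kernel f)) (hc : Good α (cokernel f))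
    (h : Good α X) : Good α Y :=
  Good.X₂ α (shortExact_coimage f) (Good.X₃ α (shortExact_image f) hk h) hc

/-- If the kernel and the cokernel are good, goodness of the target implies goodness of the source. -/
theorem Good.src {X Y : B} (f : X ⟶ Y) (hk : Good α (kernel f)) (hc : Good α (cokernel f))
    (h : Good α Y) : Good α X :=
  Good.X₂ α (shortExact_image f) hk (Good.X₁ α (shortExact_coimage f) h hc)

end Groth.Agent.Vancyc.H680.GoodAbs
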