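import Mathlib.AlgebraicGeometry.Morphisms.Smooth
import Mathlib.RingTheory.RingHom.Smooth
import Mathlib.Algebra.MvPolynomial.Equiv

/-!
# `R[x_i, i ∈ σ]/(x_j + g)`, `g` not involving `x_j`, is smooth over `R[x_t]`, `t ≠ j`
-/

set_option autoImplicit false
universe u

open CategoryTheory AlgebraicGeometry MvPolynomial

namespace Groth.Agent.Vancyc.H680.LinQuot

theorem smooth_C (A : Type u) [CommRing A] (τ : Type) [Finite τ] :
    (C : A →+* MvPolynomial τ A).Smooth :=
  RingHom.smooth_algebraMap.2 ⟨inferInstance, inferInstance⟩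

variable {R : Type u} [CommRing R] {σ : Type} [DecidableEq σ] (j t : σ) (hjt : t ≠ j)
  (g : MvPolynomial {i : σ // i ≠ j} R) (P : MvPolynomial σ R)
  (hP : P = X j + rename Subtype.val g)

/-- The remaining variables. -/
abbrev Rest (j t : σ) : Type := {i : σ // i ≠ j ∧ i ≠ t}

/-- Polynomials in the remaining variables over `R[T]`. -/
abbrev D (R : Type u) [CommRing R] (j t : σ) : Type u :=
  MvPolynomial (Rest j t) (MvPolynomial (ULift.{u} (Fin 1)) R)

/-- The constants. -/
noncomputable abbrev cc (j t : σ) : R →+* D R j t := C.comp C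

/-- The images of the variables other than `j`. -/
noncomputable def im (i : {i : σ // i ≠ j}) : D R j t :=
  if h : i.1 = t then C (X ⟨0⟩) else X ⟨i.1, i.2, h⟩

/-- The forward map on polynomials. -/
noncomputable def fwd₀ : MvPolynomial σ R →+* D R j t :=
  eval₂Hom (cc j t) fun i => if h : i = j then - eval₂ (cc j t) (im j t) g else im j t ⟨i, h⟩

theorem fwd₀_X_ne (i : σ) (h : i ≠ j) : fwd₀ j t g (X i) = im j t ⟨i, h⟩ := by
  rw [fwd₀, eval₂Hom_X', dif_neg h]

theorem fwd₀_rename (p : MvPolynomial {i : σ // i ≠ j} R) :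
    fwd₀ j t g (rename Subtype.val p) = eval₂ (cc j t) (im j t) p := by
  rw [fwd₀, coe_eval₂Hom, eval₂_rename]
  congr 1
  funext i
  exact dif_neg i.2

include hP in
theorem fwd₀_P : fwd₀ j t g P = 0 := by
  rw [hP, map_add, fwd₀_rename, fwd₀, eval₂Hom_X', dif_pos rfl, neg_add_cancel]

/-- The forward map. -/
noncomputable def fwd : (MvPolynomial σ R ⧸ Ideal.span {P}) →+* D R j t :=
  Ideal.Quotient.lift _ (fwd₀ j t g) fun a ha => by
    have : Ideal.span {P} ≤ RingHom.ker (fwd₀ j t g) := by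
      rw [Ideal.span_singleton_le_iff_mem, RingHom.mem_ker]
      exact fwd₀_P j t g P hP
    exact this ha

theorem fwd_mk (p : MvPolynomial σ R) : fwd j t g P hP (Ideal.Quotient.mk _ p) = fwd₀ j t g p := rfl

/-- `R[T] → R[x]/(P)`, `T ↦ x_t`. -/
noncomputable def tmap (t : σ) (P : MvPolynomial σ R) :
    MvPolynomial (ULift.{u} (Fin 1)) R →+* (MvPolynomial σ R ⧸ Ideal.span {P}) :=
  eval₂Hom (algebraMap R _) fun _ => Ideal.Quotient.mk _ (X t)

/-- The backward map. -/
noncomputable def bwd : D R j t →+* (MvPolynomial σ R ⧸ Ideal.span {P}) :=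
  eval₂Hom (tmap t P) fun i => Ideal.Quotient.mk _ (X i.1)

theorem bwd_C : (bwd j t P).comp (C : MvPolynomial (ULift.{u} (Fin 1)) R →+* D R j t) = tmap t P :=
  RingHom.ext fun x => eval₂Hom_C (tmap t P) (fun i : Rest j t => Ideal.Quotient.mk _ (X i.1)) x

theorem bwd_im (i : {i : σ // i ≠ j}) : bwd j t P (im j t i) = Ideal.Quotient.mk _ (X i.1) := by
  rw [im]
  split_ifs with h
  · have : bwd j t P (C (X ⟨0⟩)) = tmap t P (X ⟨0⟩) := RingHom.congr_fun (bwd_C j t P) (X ⟨0⟩)
    rw [this, tmap, eval₂Hom_X', h]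
  · rw [bwd, eval₂Hom_X']

theorem bwd_cc (r : R) : bwd j t P (cc j t r) = Ideal.Quotient.mk _ (C r) := by
  have : bwd j t P (C (C r)) = tmap t P (C r) := RingHom.congr_fun (bwd_C j t P) _
  refine this.trans ?_
  rw [tmap, eval₂Hom_C]
  rfl

include hP in
theorem bwd_fwd : (bwd j t P).comp (fwd j t g P hP) = RingHom.id _ := by
  have key : ∀ p : MvPolynomial {i : σ // i ≠ j} R, bwd j t P (eval₂ (cc j t) (im j t) p) =
      Ideal.Quotient.mk (Ideal.span {P}) (rename Subtype.val p) := by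
    intro p
    rw [hom_eval₂]
    have e : (bwd j t P).comp (cc j t) = ((Ideal.Quotient.mk (Ideal.span {P})).comp C) :=
      RingHom.ext fun r => bwd_cc j t P r
    have e2 : eval₂Hom ((Ideal.Quotient.mk (Ideal.span {P})).comp C)
        (fun i => bwd j t P (im j t i)) = (Ideal.Quotient.mk (Ideal.span {P})).comp
        (rename Subtype.val : MvPolynomial {i : σ // i ≠ j} R →ₐ[R] MvPolynomial σ R).toRingHom := by
      refine ringHom_ext (fun r => ?_) fun i => ?_
      · rw [eval₂Hom_C]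
        simp
      · rw [eval₂Hom_X', bwd_im]
        simp
    rw [e]
    exact RingHom.congr_fun e2 p
  apply Ideal.Quotient.ringHom_ext
  refine ringHom_ext (fun r => ?_) fun i => ?_
  · rw [RingHom.comp_apply, RingHom.comp_apply, fwd_mk, fwd₀, eval₂Hom_C, bwd_cc]
    rfl
  · rw [RingHom.comp_apply, RingHom.comp_apply, fwd_mk]
    by_cases h : i = j
    · subst h
      rw [fwd₀, eval₂Hom_X', dif_pos rfl, map_neg, key]
      rw [RingHom.comp_apply, RingHom.id_apply, neg_eq_iff_add_eq_zero, ← map_add, add_comm, ← hP,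
        Ideal.Quotient.eq_zero_iff_mem]
      exact Ideal.mem_span_singleton_self P
    · rw [fwd₀_X_ne j t g i h, bwd_im]
      rfl

include hjt in
theorem fwd_tmap : (fwd j t g P hP).comp (tmap t P) = C := by
  refine ringHom_ext (fun r => ?_) fun i => ?_
  · rw [RingHom.comp_apply, tmap, eval₂Hom_C]
    change fwd₀ j t g (C r) = _
    rw [fwd₀, eval₂Hom_C]
    rfl
  · rw [RingHom.comp_apply, tmap, eval₂Hom_X', fwd_mk, fwd₀_X_ne j t g t hjt, im, dif_pos rfl]
    obtain ⟨i⟩ := i
    obtain rfl : i = 0 := Subsingleton.elim _ _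
    rfl

include hjt in
theorem fwd_bwd : (fwd j t g P hP).comp (bwd j t P) = RingHom.id _ := by
  refine ringHom_ext (fun p => ?_) fun i => ?_
  · have h1 := RingHom.congr_fun (fwd_tmap j t hjt g P hP) p
    have h2 := RingHom.congr_fun (bwd_C j t P) p
    rw [RingHom.comp_apply] at h1 h2
    rw [RingHom.comp_apply, h2, h1]
    rfl
  · rw [RingHom.comp_apply, bwd, eval₂Hom_X', fwd_mk, fwd₀_X_ne j t g i.1 i.2.1, im, dif_neg i.2.2]
    rfl

include hjt hP in
/-- `R[x]/(x_j + g)` is smooth over `R[x_t]`. -/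
theorem smooth_tmap [Finite σ] : (tmap t P).Smooth := by
  let e : D R j t ≃+* (MvPolynomial σ R ⧸ Ideal.span {P}) :=
    RingEquiv.ofRingHom (bwd j t P) (fwd j t g P hP) (bwd_fwd j t g P hP) (fwd_bwd j t hjt g P hP)
  have h := (smooth_C (MvPolynomial (ULift.{u} (Fin 1)) R) (Rest j t))
  have h2 := RingHom.Smooth.respectsIso.1 C e h
  have h3 : e.toRingHom.comp C = tmap t P := bwd_C j t P
  rw [h3] at h2
  exact h2

end Groth.Agent.Vancyc.H680.LinQuot
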