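import Groth.Agent.Lefpen.H713.HypProj
import Groth.Agent.Vancyc.H680.GoodAt
import Groth.Agent.Vancyc.H680.LinQuot
import Groth.Agent.Vancyc.H680.CoordLine

/-!
# Hypersurfaces which are locally affine spaces near the hyperplane at infinity

`q` a form in `T_0, …, T_n` over `A`.  If `T_k ≠ 0` at `x` and the dehomogenization of `q` at `T_k` is
`X_j + g`, `g` not involving `X_j` and `X_j` not the coordinate `T_0 / T_k`, then the open immersion
`chartH q 0` is good at `x` (`goodAt_of_chart`).
-/

set_option autoImplicit false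
universe u
open CategoryTheory CategoryTheory.Limits AlgebraicGeometry Opposite MvPolynomial

namespace Groth.Agent.Vancyc.H680.HypGood

open Groth.Agent.Sga4B.P1Geom Groth.Agent.Lefpen.H713.HypProj Groth.Agent.Sga5.ProjChart
open CompactVan CoordLine LinQuot

variable {n : ℕ} {A : Type u} [CommRing A] {d : ℕ} (q : ↥(CohB1.polyGrading n A d))

theorem goodAt_of_chart (k : Fin (n + 1)) (t j : Fin n) (htj : t ≠ j) (ht : k.succAbove t = 0)
    (g : MvPolynomial {i : Fin n // i ≠ j} A) (hP : dehom n A k q.1 = X j + rename Subtype.val g)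
    (x : Hyp q) (hx : x ∈ (chartH q k).opensRange) : GoodAt A (toSpec q) (chartH q 0) x := by
  have h1 : Smooth (toLine (tmap t (dehom n A k q.1))) :=
    smooth_toLine _ (smooth_tmap j t htj g _ hP)
  refine ⟨Spec (CommRingCat.of (ChR q k)), chartH q k, inferInstance,
    toLine (tmap t (dehom n A k q.1)) ≫ v (Spec (CommRingCat.of A)) 0, inferInstance, ?_, hx, ?_⟩
  · rw [Category.assoc, v_toBase, toLine_over, chartH_toSpec]
    congr 2
    exact RingHom.ext fun r => eval₂Hom_C _ _ _
  · intro y
    have h2 := mem_chartH_iff q k 0 y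
    have h3 := mem_range_v_iff (tmap t (dehom n A k q.1)) y
    have h4 : tmap t (dehom n A k q.1) (X ⟨0⟩) =
        Ideal.Quotient.mk (Ideal.span {dehom n A k q.1}) (dehom n A k (X 0)) := by
      rw [← ht, dehom_X, tmap, eval₂Hom_X']
    rw [h4] at h3
    exact h2.trans h3.symm

end Groth.Agent.Vancyc.H680.HypGood
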