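import Groth.Agent.Smoothlim.JacAway
import Mathlib.AlgebraicGeometry.Morphisms.Smooth
import Mathlib.RingTheory.Extension.Presentation.Submersive

/-!
# The Jacobian criterion for affine hypersurfaces
-/

set_option autoImplicit false
universe u
open CategoryTheory CategoryTheory.Limits AlgebraicGeometry MvPolynomial

namespace Groth.Agent.Vancyc.H680.HypSmooth

variable {R : Type u} [CommRing R] {σ : Type} [Finite σ] (F : MvPolynomial σ R)

/-- The structure morphism of the hypersurface. -/
noncomputable abbrev str : Spec (CommRingCat.of (MvPolynomial σ R ⧸ Ideal.span {F})) ⟶ Spec (CommRingCat.of R) :=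
  Spec.map (CommRingCat.ofHom (algebraMap R (MvPolynomial σ R ⧸ Ideal.span {F})))

instance locallyOfFinitePresentation_str : LocallyOfFinitePresentation (str F) := by
  have h : Algebra.FinitePresentation R (MvPolynomial σ R ⧸ Ideal.span {F}) :=
    Algebra.FinitePresentation.quotient ⟨{F}, by simp⟩
  refine (HasRingHomProperty.Spec_iff (P := @LocallyOfFinitePresentation)).2 ?_
  exact RingHom.finitePresentation_algebraMap.2 h

/-- Inverting a partial derivative gives a smooth algebra. -/
theorem smooth_away (i : σ) : Algebra.Smooth R (Localization.Away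
    (Ideal.Quotient.mk (Ideal.span {F}) (pderiv i F))) := by
  have hr : Set.range (fun _ : Unit => F) = {F} := Set.range_const
  have key : ∀ (I : Ideal (MvPolynomial σ R)), I = Ideal.span (Set.range fun _ : Unit => F) →
      Algebra.Smooth R (Localization.Away (Ideal.Quotient.mk I (pderiv i F))) := by
    rintro _ rfl
    let P := Algebra.PreSubmersivePresentation.naive (R := R) (v := fun _ : Unit => F) (fun _ => i)
      (Function.injective_of_subsingleton _)
    have hj : P.jacobian = Ideal.Quotient.mk (Ideal.span (Set.range fun _ : Unit => F)) (pderiv i F) := by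
      classical
      rw [Algebra.PreSubmersivePresentation.jacobian_eq_jacobiMatrix_det, Matrix.det_unique,
        Algebra.PreSubmersivePresentation.jacobiMatrix_naive]
      rfl
    have h : Algebra.IsStandardSmooth R (Localization.Away P.jacobian) :=
      Smoothlim.JacAway.isStandardSmooth_of_isLocalizationAway P P.jacobian
        (IsLocalization.Away.algebraMap_isUnit P.jacobian)
    rw [hj] at h
    infer_instance
  exact key _ (by rw [hr])

theorem mem_smoothLocus (y : Spec (CommRingCat.of (MvPolynomial σ R ⧸ Ideal.span {F}))) (i : σ)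
    (h : Ideal.Quotient.mk (Ideal.span {F}) (pderiv i F) ∉ y.asIdeal) : y ∈ (str F).smoothLocus := by
  let r := Ideal.Quotient.mk (Ideal.span {F}) (pderiv i F)
  let w : Spec (CommRingCat.of (Localization.Away r)) ⟶
      Spec (CommRingCat.of (MvPolynomial σ R ⧸ Ideal.span {F})) :=
    Spec.map (CommRingCat.ofHom (algebraMap _ (Localization.Away r)))
  have hw : IsOpenImmersion w := IsOpenImmersion.of_isLocalization r
  have h1 : w ≫ str F = Spec.map (CommRingCat.ofHom (algebraMap R (Localization.Away r))) := by
    rw [← Spec.map_comp, ← CommRingCat.ofHom_comp, ← IsScalarTower.algebraMap_eq]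
  have h2 : Smooth (w ≫ str F) := by
    rw [h1]
    refine (HasRingHomProperty.Spec_iff (P := @Smooth)).2 ?_
    exact RingHom.smooth_algebraMap.2 (smooth_away F i)
  have h3 : y ∈ Set.range w := by
    have h4 : Set.range w = (PrimeSpectrum.basicOpen r : Set (PrimeSpectrum _)) :=
      PrimeSpectrum.localization_away_comap_range (Localization.Away r) r
    rw [h4]
    exact h
  obtain ⟨z, rfl⟩ := h3
  have h5 := Scheme.Hom.preimage_smoothLocus_eq w (str F)
  have h6 := Scheme.Hom.smoothLocus_eq_top (w ≫ str F)
  have h7 : z ∈ w ⁻¹ᵁ (str F).smoothLocus := by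
    rw [h5, h6]
    trivial
  exact h7

/-- Smoothness of an open subscheme of a hypersurface. -/
theorem smooth_comp {U : Scheme.{u}} (j : U ⟶ Spec (CommRingCat.of (MvPolynomial σ R ⧸ Ideal.span {F})))
    [IsOpenImmersion j] (h : ∀ y ∈ Set.range j, ∃ i : σ,
      Ideal.Quotient.mk (Ideal.span {F}) (pderiv i F) ∉ PrimeSpectrum.asIdeal y) : Smooth (j ≫ str F) := by
  rw [← Scheme.Hom.smoothLocus_eq_top_iff, ← Scheme.Hom.preimage_smoothLocus_eq]
  rw [← top_le_iff]
  intro u _
  obtain ⟨i, hi⟩ := h (j u) ⟨u, rfl⟩
  exact mem_smoothLocus F (j u) i hi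

end Groth.Agent.Vancyc.H680.HypSmooth
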