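import Groth.Agent.Vancyc.H680.SepPoint
import Groth.Agent.Vancyc.H680.HypSmooth
import Mathlib.FieldTheory.IsAlgClosed.AlgebraicClosure
import Mathlib.RingTheory.LocalRing.ResidueField.Ideal
import Mathlib.AlgebraicGeometry.Morphisms.Integral

/-!
# A closed point of an affine hypersurface over a local ring, given by coordinates in the algebraic closure of
the residue field
-/

set_option autoImplicit false
universe u
open CategoryTheory CategoryTheory.Limits AlgebraicGeometry MvPolynomial

namespace Groth.Agent.Vancyc.H680.HypPoint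

open HypSmooth

variable (R : Type u) [CommRing R] [IsLocalRing R]

/-- The algebraic closure of the residue field. -/
abbrev KK : Type u := AlgebraicClosure (IsLocalRing.ResidueField R)

/-- The map to the algebraic closure of the residue field. -/
noncomputable abbrev toKK : R →+* KK R := (algebraMap _ (KK R)).comp (IsLocalRing.residue R)

theorem isIntegral_toKK : (toKK R).IsIntegral := by
  refine RingHom.IsIntegral.trans _ _ ?_ ?_
  · exact RingHom.isIntegral_of_surjective _ IsLocalRing.residue_surjective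
  · exact algebraMap_isIntegral_iff.2 inferInstance

theorem ker_toKK : RingHom.ker (toKK R) = IsLocalRing.maximalIdeal R := by
  ext x
  rw [RingHom.mem_ker, RingHom.comp_apply, map_eq_zero]
  exact IsLocalRing.residue_eq_zero_iff x

instance isIntegralHom_toKK : IsIntegralHom (Spec.map (CommRingCat.ofHom (toKK R))) :=
  IsIntegralHom.SpecMap_iff.2 (isIntegral_toKK R)

variable {R} {σ : Type} (F : MvPolynomial σ R) (a : σ → KK R)
  (ha : eval₂Hom (toKK R) a F = 0)

/-- Evaluation at the point. -/
noncomputable def ev : (MvPolynomial σ R ⧸ Ideal.span {F}) →+* KK R :=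
  Ideal.Quotient.lift _ (eval₂Hom (toKK R) a) fun p hp => by
    have h : Ideal.span {F} ≤ RingHom.ker (eval₂Hom (toKK R) a) := by
      rw [Ideal.span_singleton_le_iff_mem, RingHom.mem_ker]
      exact ha
    exact h hp

theorem ev_mk (p : MvPolynomial σ R) : ev F a ha (Ideal.Quotient.mk _ p) = eval₂Hom (toKK R) a p := rfl

theorem ev_comp : (ev F a ha).comp (algebraMap R _) = toKK R := by
  ext x
  have h : algebraMap R (MvPolynomial σ R ⧸ Ideal.span {F}) x = Ideal.Quotient.mk _ (C x) := rfl
  rw [RingHom.comp_apply, h, ev_mk, eval₂Hom_C]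

/-- The geometric point. -/
noncomputable abbrev xi : Spec (CommRingCat.of (KK R)) ⟶
    Spec (CommRingCat.of (MvPolynomial σ R ⧸ Ideal.span {F})) :=
  Spec.map (CommRingCat.ofHom (ev F a ha))

theorem xi_str : xi F a ha ≫ str F = Spec.map (CommRingCat.ofHom (toKK R)) := by
  rw [← Spec.map_comp, ← CommRingCat.ofHom_comp, ev_comp]

/-- The point. -/
noncomputable def x0 : Spec (CommRingCat.of (MvPolynomial σ R ⧸ Ideal.span {F})) := xi F a ha default

theorem asIdeal_point {L : Type u} [Field L] (z : Spec (CommRingCat.of L)) :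
    PrimeSpectrum.asIdeal z = (⊥ : Ideal L) :=
  (Ideal.eq_bot_or_top _).resolve_right (PrimeSpectrum.isPrime z).ne_top

theorem asIdeal_map {S L : Type u} [CommRing S] [Field L] (φ : S →+* L) (z : Spec (CommRingCat.of L)) :
    PrimeSpectrum.asIdeal (Spec.map (CommRingCat.ofHom φ) z) = RingHom.ker φ := by
  change Ideal.comap φ (PrimeSpectrum.asIdeal z) = _
  rw [asIdeal_point]
  rfl

theorem asIdeal_x0 : PrimeSpectrum.asIdeal (x0 F a ha) = RingHom.ker (ev F a ha) :=
  asIdeal_map (ev F a ha) _

theorem isClosed_x0 : IsClosed ({x0 F a ha} : Set (Spec (CommRingCat.of (MvPolynomial σ R ⧸ Ideal.span {F})))) := by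
  have h1 : (ev F a ha).IsIntegral := by
    have h2 : ((ev F a ha).comp (algebraMap R _)).IsIntegral := by
      rw [ev_comp]
      exact isIntegral_toKK R
    exact RingHom.IsIntegral.tower_top _ _ h2
  have h3 : IsIntegralHom (xi F a ha) := IsIntegralHom.SpecMap_iff.2 h1
  have h4 : Set.range (xi F a ha) = {x0 F a ha} := by
    ext y
    constructor
    · rintro ⟨z, rfl⟩
      rw [Subsingleton.elim z default]
      rfl
    · rintro rfl
      exact ⟨default, rfl⟩
  rw [← h4]
  exact (xi F a ha).isClosedMap.isClosed_range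

theorem str_x0 : str F (x0 F a ha) = IsLocalRing.closedPoint R := by
  have h := congrArg (fun (k : Spec (CommRingCat.of (KK R)) ⟶ _) => k default) (xi_str F a ha)
  refine Eq.trans h ?_
  apply PrimeSpectrum.ext
  exact (asIdeal_map (toKK R) _).trans (ker_toKK R)

/-- Uniqueness of the point, by comparison of the coordinates. -/
theorem eq_x0 (y : Spec (CommRingCat.of (MvPolynomial σ R ⧸ Ideal.span {F})))
    (hy : str F y = IsLocalRing.closedPoint R)
    (h : ∀ (L : Type u) [Field L] (χ : (MvPolynomial σ R ⧸ Ideal.span {F}) →+* L) (ℓ : KK R →+* L),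
      χ.comp (algebraMap R _) = ℓ.comp (toKK R) → (∀ p ∈ PrimeSpectrum.asIdeal y, χ p = 0) →
        ∀ i, χ (Ideal.Quotient.mk _ (X i)) = ℓ (a i)) : y = x0 F a ha := by
  let I : Ideal (MvPolynomial σ R ⧸ Ideal.span {F}) := PrimeSpectrum.asIdeal y
  have hI : I.IsPrime := PrimeSpectrum.isPrime y
  let L := AlgebraicClosure I.ResidueField
  let χ : (MvPolynomial σ R ⧸ Ideal.span {F}) →+* L :=
    (algebraMap I.ResidueField L).comp (algebraMap _ I.ResidueField)
  have hχ : RingHom.ker χ = I := by
    ext p
    rw [RingHom.mem_ker, RingHom.comp_apply, map_eq_zero, Ideal.algebraMap_residueField_eq_zero]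
  have h1 : ∀ r ∈ IsLocalRing.maximalIdeal R, (χ.comp (algebraMap R _)) r = 0 := by
    intro r hr
    have h2 := congrArg PrimeSpectrum.asIdeal hy
    have h3 : r ∈ (IsLocalRing.closedPoint R).asIdeal := hr
    rw [← h2] at h3
    have h4 : algebraMap R (MvPolynomial σ R ⧸ Ideal.span {F}) r ∈ I := h3
    rw [← hχ] at h4
    exact h4
  let ψ : IsLocalRing.ResidueField R →+* L := Ideal.Quotient.lift _ (χ.comp (algebraMap R _)) h1
  algebraize [ψ]
  let ℓ : KK R →ₐ[IsLocalRing.ResidueField R] L := IsAlgClosed.lift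
  have h2 : χ.comp (algebraMap R _) = (ℓ : KK R →+* L).comp (toKK R) := by
    ext r
    change _ = ℓ (algebraMap _ (KK R) (IsLocalRing.residue R r))
    rw [ℓ.commutes]
    rfl
  have h3 := h L χ ℓ h2 (fun p hp => by
    have : p ∈ RingHom.ker χ := by
      rw [hχ]
      exact hp
    exact this)
  have h4 : χ = (ℓ : KK R →+* L).comp (ev F a ha) := by
    apply Ideal.Quotient.ringHom_ext
    refine ringHom_ext (fun r => ?_) fun i => ?_
    · have h5 := RingHom.congr_fun h2 r
      rw [RingHom.comp_apply] at h5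
      refine Eq.trans h5 ?_
      change ℓ (toKK R r) = ℓ (ev F a ha (Ideal.Quotient.mk _ (C r)))
      rw [ev_mk, eval₂Hom_C]
    · change χ (Ideal.Quotient.mk _ (X i)) = ℓ (ev F a ha (Ideal.Quotient.mk _ (X i)))
      rw [ev_mk, eval₂Hom_X']
      exact h3 i
  apply PrimeSpectrum.ext
  refine Eq.trans ?_ (asIdeal_x0 F a ha).symm
  change I = _
  rw [← hχ, h4]
  ext p
  change ℓ (ev F a ha p) = 0 ↔ _
  rw [map_eq_zero]
  rfl

end Groth.Agent.Vancyc.H680.HypPoint
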