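import Groth.Agent.Vancyc.H680.PbcVan
import Groth.Agent.Sga4B.P1Geom441
import Groth.Agent.S3117
import Groth.Agent.EtpbcB.EdgeEt
import Groth.Agent.Sga4h.FinRedOC
import Groth.Agent.Sga4h.ConsWO

/-!
# Direct images from the affine line to the projective line of sheaves pulled back from a strictly
henselian base, with zero stalk at the closed point

`A` strictly henselian local, `T = Spec A`, `N` invertible in `A`, `C` an abelian sheaf on `T` killed by `N`
with zero stalk at the closed point, `β : 𝔸¹_T ⟶ P¹_T` the chart `v T 1`, `F` the pull-back of `C` to `𝔸¹_T`: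
`supp (R^q β_* F)` does not meet the closed fibre of `P¹_T`, for all `q`.
-/

set_option autoImplicit false
universe u
open CategoryTheory CategoryTheory.Limits AlgebraicGeometry Opposite

namespace Groth.Agent.Vancyc.H680.InftyVan

open Groth.Agent.EtpbcA.Artin Groth.Agent.EtpbcA.CdEtLeray Groth.Agent.Sga4B.P1Geom

theorem isUnit_natCast_top {A : Type u} [CommRing A] {N : ℕ} (hN : IsUnit (N : A)) :
    IsUnit (N : Γ(Spec (CommRingCat.of A), ⊤)) := by
  have h := hN.map (Scheme.ΓSpecIso (CommRingCat.of A)).inv.hom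
  rwa [map_natCast] at h

theorem pos_of_isUnit {A : Type u} [CommRing A] [Nontrivial A] {N : ℕ} (hN : IsUnit (N : A)) : 0 < N := by
  rcases Nat.eq_zero_or_pos N with h | h
  · subst h
    rw [Nat.cast_zero] at hN
    exact absurd hN not_isUnit_zero
  · exact h

section open_

variable {U X : Scheme.{u}} (j : U ⟶ X) [IsOpenImmersion j]

theorem not_mem_supp_Rpush_succ (F : EtCoh.Ab U) (q : ℕ) (y : U) :
    j y ∉ EtPBC.supp ((EtCoh.Rpush j (q + 1)).obj F) := by
  have h := supp_eq_empty_of_isZero (Sga4h.FinRed.isZero_pull_Rpush j F q) y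
  rw [supp_pull] at h
  exact h

theorem not_mem_supp_Rpush (F : EtCoh.Ab U) (q : ℕ) (y : U) (hy : y ∉ EtPBC.supp F) :
    j y ∉ EtPBC.supp ((EtCoh.Rpush j q).obj F) := by
  cases q with
  | succ q => exact not_mem_supp_Rpush_succ j F q y
  | zero =>
    have e : (EtCoh.pull j).obj ((EtCoh.Rpush j 0).obj F) ≅ F := by
      have := EtpbcA.CdExact.push_preservesFiniteLimits j
      exact (EtCoh.pull j).mapIso ((EtCoh.push j).rightDerivedZeroIsoSelf.app F) ≪≫
        (asIso (EtCoh.pullPushAdj j).counit).app F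
    have h : y ∉ EtPBC.supp ((EtCoh.pull j).obj ((EtCoh.Rpush j 0).obj F)) := by
      rwa [supp_congr e]
    rw [supp_pull] at h
    exact h

end open_

section main

variable (A : Type u) [CommRing A] [HenselianLocalRing A] [IsSepClosed (IsLocalRing.ResidueField A)]
  (N : ℕ) (hN : IsUnit (N : A)) (C : EtCoh.Ab (Spec (CommRingCat.of A))) (hC : EtCoh.KilledBy N C)
  (hC0 : IsLocalRing.closedPoint A ∉ EtPBC.supp C)

omit [IsSepClosed (IsLocalRing.ResidueField A)] in
include hN hC hC0 in
/-- `H^q(T, C) = 0`. -/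
theorem H_base (q : ℕ) : Subsingleton (EtCoh.H (Spec (CommRingCat.of A)) C q) := by
  refine PbcVan.H_subsingleton A (𝟙 _) C
    (EtpbcB.TorsionBasic.isTorsion_of_killedBy (pos_of_isUnit hN) hC) (fun x hx => ?_) q
  have : x = IsLocalRing.closedPoint A := hx
  rw [this]
  exact hC0

/-- The affine line. -/
noncomputable abbrev Aff : Scheme.{u} := 𝔸(I.{u}; Spec (CommRingCat.of A))

/-- The pull-back of `C` to the affine line. -/
noncomputable abbrev FF : EtCoh.Ab (Aff A) :=
  (EtCoh.pull (𝔸(I.{u}; Spec (CommRingCat.of A)) ↘ Spec (CommRingCat.of A))).obj C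

omit [IsSepClosed (IsLocalRing.ResidueField A)] in
include hN hC hC0 in
/-- `H^q(𝔸¹_T, C) = 0`. -/
theorem H_line (q : ℕ) : Subsingleton (EtCoh.H (Aff A) (FF A C) q) := by
  obtain ⟨h0, h1⟩ := Groth.Agent.S3117.result (Spec (CommRingCat.of A)) 1 N (isUnit_natCast_top hN) C hC
  refine H_subsingleton_of_leray (𝔸(I.{u}; Spec (CommRingCat.of A)) ↘ Spec (CommRingCat.of A)) _ q ?_ ?_
  · exact H_subsingleton_of_iso (asIso ((EtCoh.pullPushAdj (𝔸(ULift.{u} (Fin 1);
      Spec (CommRingCat.of A)) ↘ Spec (CommRingCat.of A))).unit.app C)) q (H_base A N hN C hC hC0 q)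
  · intro a b hab
    exact H_subsingleton_of_isZero (h1 (b + 1) (Nat.succ_pos b)) a

/-- The chart at infinity. -/
noncomputable abbrev beta : Aff A ⟶ CohB1.ProjSpaceOver 1 (Spec (CommRingCat.of A)) :=
  v (Spec (CommRingCat.of A)) 1

include hN hC hC0 in
/-- `supp (R^q β_* F)` does not meet the closed fibre of `P¹_T`. -/
theorem not_mem_supp (q : ℕ) : ∀ x : ↥(CohB1.ProjSpaceOver 1 (Spec (CommRingCat.of A))),
    CohB1.ProjSpaceOver.toBase 1 (Spec (CommRingCat.of A)) x = IsLocalRing.closedPoint A →
      x ∉ EtPBC.supp ((EtCoh.Rpush (beta A) q).obj (FF A C)) := by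
  induction q using Nat.strong_induction_on with
  | _ q ih =>
  let p := CohB1.ProjSpaceOver.toBase 1 (Spec (CommRingCat.of A))
  have hNpos : 0 < N := pos_of_isUnit hN
  have hFk : EtCoh.KilledBy N (FF A C) := Sga4h.ConsWO.killedBy_pull _ hC
  have hT : ∀ m, EtCoh.IsTorsion ((EtCoh.Rpush (beta A) m).obj (FF A C)) := fun m =>
    EtpbcB.TorsionBasic.isTorsion_of_killedBy hNpos (Sga4h.ConsWO.killedBy_rpush _ hFk m)
  -- points of the chart
  have hchart : ∀ y : Aff A, p (beta A y) = IsLocalRing.closedPoint A →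
      beta A y ∉ EtPBC.supp ((EtCoh.Rpush (beta A) q).obj (FF A C)) := by
    intro y hy
    refine not_mem_supp_Rpush (beta A) _ q y ?_
    rw [supp_pull]
    have h1 : (𝔸(I.{u}; Spec (CommRingCat.of A)) ↘ Spec (CommRingCat.of A)) y =
        IsLocalRing.closedPoint A := by
      rw [← hy]
      have h2 := v_toBase (Spec (CommRingCat.of A)) 1
      exact (congrArg (fun (k : Aff A ⟶ _) => k y) h2).symm
    intro h
    apply hC0
    rw [← h1]
    exact h
  -- the point at infinity of the closed fibre
  let σ := P1.sect (Spec (CommRingCat.of A)) 0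
  let x₀ : ↥(CohB1.ProjSpaceOver 1 (Spec (CommRingCat.of A))) := σ (IsLocalRing.closedPoint A)
  have hσ : ∀ t, p (σ t) = t := fun t => by
    have h2 := sect_toBase (Spec (CommRingCat.of A)) 0
    have h3 := congrArg (fun (k : Spec (CommRingCat.of A) ⟶ Spec (CommRingCat.of A)) => k t) h2
    exact h3
  have hcl : IsClosed ({x₀} : Set ↥(CohB1.ProjSpaceOver 1 (Spec (CommRingCat.of A)))) := by
    have h : ({x₀} : Set ↥(CohB1.ProjSpaceOver 1 (Spec (CommRingCat.of A)))) =
        σ '' {IsLocalRing.closedPoint A} := by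
      exact (Set.image_singleton (f := σ) (a := IsLocalRing.closedPoint A)).symm
    rw [h]
    exact (IsClosedImmersion.isClosedEmbedding σ).isClosedMap _
      (IsLocalRing.isClosed_singleton_closedPoint A)
  have hs : ∀ x, p x = IsLocalRing.closedPoint A → x ≠ x₀ →
      x ∉ EtPBC.supp ((EtCoh.Rpush (beta A) q).obj (FF A C)) := by
    intro x hx hne
    by_cases hr : x ∈ Set.range (v (Spec (CommRingCat.of A)) 1)
    · obtain ⟨y, rfl⟩ := hr
      exact hchart y hx
    · exfalso
      apply hne
      have h1 : x ∈ Set.range (P1.sect (Spec (CommRingCat.of A)) 0) := by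
        rw [range_sect]
        exact hr
      obtain ⟨t, rfl⟩ := h1
      have h2 : t = IsLocalRing.closedPoint A := by
        rw [← hσ t]
        exact hx
      rw [h2]
  have hH : Subsingleton (EtCoh.H (CohB1.ProjSpaceOver 1 (Spec (CommRingCat.of A)))
      ((EtCoh.Rpush (beta A) q).obj (FF A C)) 0) := by
    rcases Nat.eq_zero_or_pos q with rfl | hq
    · have h0 := PbcVan.H_zero_push_subsingleton (beta A) (FF A C) (H_line A N hN C hC hC0 0)
      have := EtpbcA.CdExact.push_preservesFiniteLimits (beta A)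
      exact H_subsingleton_of_iso ((EtCoh.push (beta A)).rightDerivedZeroIsoSelf.symm.app (FF A C)) 0 h0
    · refine EtpbcB.EdgeEt.subsingleton_H0_Rpush (beta A) (FF A C) q hq ?_ ?_ ?_
      · intro i hi hiq a
        exact PbcVan.H_subsingleton A p _ (hT i) (ih i hiq) a
      · have := H_line A N hN C hC hC0 q
        intro y
        exact ⟨0, Subsingleton.elim _ _⟩
      · have h0 : Subsingleton (EtCoh.H (CohB1.ProjSpaceOver 1 (Spec (CommRingCat.of A)))
            ((EtCoh.push (beta A)).obj (FF A C)) (q + 1)) := by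
          have := EtpbcA.CdExact.push_preservesFiniteLimits (beta A)
          exact H_subsingleton_of_iso ((EtCoh.push (beta A)).rightDerivedZeroIsoSelf.app (FF A C)) (q + 1)
            (PbcVan.H_subsingleton A p _ (hT 0) (ih 0 hq) (q + 1))
        intro a b _
        exact Subsingleton.elim _ _
  intro x hx
  by_cases hne : x = x₀
  · rw [hne]
    exact PbcVan.not_mem_supp_of_H_zero A p _ (hT q) x₀ hcl hs (by rw [← hne]; exact hx) hH
  · exact hs x hx hne

end main

end Groth.Agent.Vancyc.H680.InftyVan
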