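import Mathlib.AlgebraicGeometry.Pullbacks
import Mathlib.Algebra.MvPolynomial.Basic
import Mathlib.RingTheory.Ideal.Quotient.Operations

/-!
# Base change and translation of affine hypersurfaces

`φ : A → B`, `a_i ∈ B`, `G = F^φ(X + a)`: `Spec B[X]/(G)` is the base change of `Spec A[X]/(F)` to `Spec B`.
-/

set_option autoImplicit false
universe u
open CategoryTheory CategoryTheory.Limits AlgebraicGeometry MvPolynomial

namespace Groth.Agent.Vancyc.H680.TransBC

variable {A B : Type u} [CommRing A] [CommRing B] (φ : A →+* B) {σ : Type} (a : σ → B)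
  (F : MvPolynomial σ A) (G : MvPolynomial σ B)
  (hG : eval₂Hom ((C : B →+* MvPolynomial σ B).comp φ) (fun i => X i + C (a i)) F = G)

/-- `A[X]/(F) → B[X]/(G)`, `X_i ↦ X_i + a_i`. -/
noncomputable def bcHom : (MvPolynomial σ A ⧸ Ideal.span {F}) →+* (MvPolynomial σ B ⧸ Ideal.span {G}) :=
  Ideal.Quotient.lift _ ((Ideal.Quotient.mk (Ideal.span {G})).comp
    (eval₂Hom ((C : B →+* MvPolynomial σ B).comp φ) (fun i => X i + C (a i)))) fun p hp => by
    have h : Ideal.span {F} ≤ RingHom.ker ((Ideal.Quotient.mk (Ideal.span {G})).comp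
        (eval₂Hom ((C : B →+* MvPolynomial σ B).comp φ) (fun i => X i + C (a i)))) := by
      rw [Ideal.span_singleton_le_iff_mem, RingHom.mem_ker, RingHom.comp_apply, hG,
        Ideal.Quotient.eq_zero_iff_mem]
      exact Ideal.mem_span_singleton_self G
    exact h hp

theorem bcHom_mk (p : MvPolynomial σ A) : bcHom φ a F G hG (Ideal.Quotient.mk _ p) =
    Ideal.Quotient.mk _ (eval₂Hom ((C : B →+* MvPolynomial σ B).comp φ) (fun i => X i + C (a i)) p) := rfl

theorem bcHom_comp : (bcHom φ a F G hG).comp (algebraMap A (MvPolynomial σ A ⧸ Ideal.span {F})) =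
    (algebraMap B (MvPolynomial σ B ⧸ Ideal.span {G})).comp φ := by
  ext x
  have h : algebraMap A (MvPolynomial σ A ⧸ Ideal.span {F}) x = Ideal.Quotient.mk _ (C x) := rfl
  rw [RingHom.comp_apply, h, bcHom_mk, eval₂Hom_C]
  rfl

section desc

variable {T : Type u} [CommRing T] (α : (MvPolynomial σ A ⧸ Ideal.span {F}) →+* T) (β : B →+* T)
  (h : α.comp (algebraMap A (MvPolynomial σ A ⧸ Ideal.span {F})) = β.comp φ)

include hG h in
theorem desc_aux : eval₂Hom β (fun i => α (Ideal.Quotient.mk _ (X i)) - β (a i)) G = 0 := by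
  have h1 : (eval₂Hom β (fun i => α (Ideal.Quotient.mk _ (X i)) - β (a i))).comp
      (eval₂Hom ((C : B →+* MvPolynomial σ B).comp φ) (fun i => X i + C (a i))) =
      α.comp (Ideal.Quotient.mk (Ideal.span {F})) := by
    refine ringHom_ext (fun x => ?_) fun i => ?_
    · rw [RingHom.comp_apply, eval₂Hom_C, RingHom.comp_apply, eval₂Hom_C]
      exact (RingHom.congr_fun h x).symm
    · rw [RingHom.comp_apply, eval₂Hom_X', map_add, eval₂Hom_X', eval₂Hom_C]
      simp
  have h2 := RingHom.congr_fun h1 F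
  rw [RingHom.comp_apply, hG, RingHom.comp_apply] at h2
  rw [h2, Ideal.Quotient.eq_zero_iff_mem.2 (Ideal.mem_span_singleton_self F), map_zero]

/-- The universal property. -/
noncomputable def desc : (MvPolynomial σ B ⧸ Ideal.span {G}) →+* T :=
  Ideal.Quotient.lift _ (eval₂Hom β (fun i => α (Ideal.Quotient.mk _ (X i)) - β (a i))) fun p hp => by
    have h' : Ideal.span {G} ≤ RingHom.ker (eval₂Hom β (fun i => α (Ideal.Quotient.mk _ (X i)) - β (a i))) := by
      rw [Ideal.span_singleton_le_iff_mem, RingHom.mem_ker]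
      exact desc_aux φ a F G hG α β h
    exact h' hp

theorem desc_mk (p : MvPolynomial σ B) : desc φ a F G hG α β h (Ideal.Quotient.mk _ p) =
    eval₂Hom β (fun i => α (Ideal.Quotient.mk _ (X i)) - β (a i)) p := rfl

theorem desc_bcHom : (desc φ a F G hG α β h).comp (bcHom φ a F G hG) = α := by
  apply Ideal.Quotient.ringHom_ext
  refine ringHom_ext (fun x => ?_) fun i => ?_
  · rw [RingHom.comp_apply, RingHom.comp_apply, bcHom_mk, desc_mk, eval₂Hom_C, RingHom.comp_apply,
      eval₂Hom_C]
    exact (RingHom.congr_fun h x).symm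
  · rw [RingHom.comp_apply, RingHom.comp_apply, bcHom_mk, desc_mk, eval₂Hom_X', map_add,
      eval₂Hom_X', eval₂Hom_C]
    simp

theorem desc_algebraMap : (desc φ a F G hG α β h).comp
    (algebraMap B (MvPolynomial σ B ⧸ Ideal.span {G})) = β := by
  ext x
  have h1 : algebraMap B (MvPolynomial σ B ⧸ Ideal.span {G}) x = Ideal.Quotient.mk _ (C x) := rfl
  rw [RingHom.comp_apply, h1, desc_mk, eval₂Hom_C]

end desc

theorem hom_ext {T : Type u} [CommRing T] {γ γ' : (MvPolynomial σ B ⧸ Ideal.span {G}) →+* T}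
    (h1 : γ.comp (bcHom φ a F G hG) = γ'.comp (bcHom φ a F G hG))
    (h2 : γ.comp (algebraMap B (MvPolynomial σ B ⧸ Ideal.span {G})) =
      γ'.comp (algebraMap B (MvPolynomial σ B ⧸ Ideal.span {G}))) : γ = γ' := by
  have h3 (x : B) : γ (Ideal.Quotient.mk _ (C x)) = γ' (Ideal.Quotient.mk _ (C x)) :=
    RingHom.congr_fun h2 x
  apply Ideal.Quotient.ringHom_ext
  refine ringHom_ext (fun x => h3 x) fun i => ?_
  have h4 := RingHom.congr_fun h1 (Ideal.Quotient.mk _ (X i))
  simp only [RingHom.comp_apply, bcHom_mk, eval₂Hom_X', map_add] at h4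
  rw [h3] at h4
  exact add_right_cancel h4

/-- The pushout square of rings. -/
theorem isPushout : IsPushout (CommRingCat.ofHom (algebraMap A (MvPolynomial σ A ⧸ Ideal.span {F})))
    (CommRingCat.ofHom φ) (CommRingCat.ofHom (bcHom φ a F G hG))
    (CommRingCat.ofHom (algebraMap B (MvPolynomial σ B ⧸ Ideal.span {G}))) := by
  have key (s : PushoutCocone (CommRingCat.ofHom (algebraMap A (MvPolynomial σ A ⧸ Ideal.span {F})))
      (CommRingCat.ofHom φ)) : s.inl.hom.comp (algebraMap A (MvPolynomial σ A ⧸ Ideal.span {F})) =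
      s.inr.hom.comp φ := congrArg CommRingCat.Hom.hom s.condition
  refine IsPushout.of_isColimit' ⟨?_⟩ (PushoutCocone.IsColimit.mk _
    (fun s => CommRingCat.ofHom (desc φ a F G hG s.inl.hom s.inr.hom (key s))) (fun s => ?_) (fun s => ?_)
    (fun s m h1 h2 => ?_))
  · rw [← CommRingCat.ofHom_comp, ← CommRingCat.ofHom_comp, bcHom_comp]
  · apply CommRingCat.hom_ext
    exact desc_bcHom φ a F G hG s.inl.hom s.inr.hom (key s)
  · apply CommRingCat.hom_ext
    exact desc_algebraMap φ a F G hG s.inl.hom s.inr.hom (key s)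
  · apply CommRingCat.hom_ext
    apply hom_ext φ a F G hG
    · rw [CommRingCat.hom_ofHom, desc_bcHom]
      exact congrArg CommRingCat.Hom.hom h1
    · rw [CommRingCat.hom_ofHom, desc_algebraMap]
      exact congrArg CommRingCat.Hom.hom h2

/-- The pullback square of schemes. -/
theorem isPullback : IsPullback
    (Spec.map (CommRingCat.ofHom (algebraMap B (MvPolynomial σ B ⧸ Ideal.span {G}))))
    (Spec.map (CommRingCat.ofHom (bcHom φ a F G hG)))
    (Spec.map (CommRingCat.ofHom φ))
    (Spec.map (CommRingCat.ofHom (algebraMap A (MvPolynomial σ A ⧸ Ideal.span {F})))) :=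
  (isPullback_SpecMap_of_isPushout _ _ _ _ (isPushout φ a F G hG)).flip

end Groth.Agent.Vancyc.H680.TransBC
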