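import Groth.Agent.Vancyc.H680.HypPoint
import Groth.Agent.Vancyc.H680.TransBC
import Groth.Agent.Vancyc.H694.StdT
import Mathlib.RingTheory.MvPolynomial.Homogeneous
import Mathlib.RingTheory.DiscreteValuationRing.Basic
import Mathlib.RingTheory.DedekindDomain.Basic

/-!
# The singular points of the split quadric models
-/

set_option autoImplicit false
universe u
open CategoryTheory CategoryTheory.Limits AlgebraicGeometry MvPolynomial

namespace Groth.Agent.Vancyc.H680.ModelAlg

open HypSmooth HypPoint Groth.Agent.Vancyc.H694.StdT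

theorem lo_ne_hi {m : ℕ} (i i' : Fin m) : lo m i ≠ hi m i' := by
  intro h
  have := congrArg Fin.val h
  simp only [lo, hi] at this
  omega

section poly

variable (A : Type u) [CommRing A] (m : ℕ)

theorem pderiv_lo (i : Fin m) : pderiv (lo m i) (VanCyc.quadPoly (stdT A m)) = X (hi m i) := by
  rw [quadPoly_stdT, map_sum, Finset.sum_eq_single i]
  · rw [Derivation.leibniz, pderiv_X_self, pderiv_X_of_ne (lo_ne_hi i i).symm]
    simp
  · intro i' _ hi'
    rw [Derivation.leibniz, pderiv_X_of_ne (lo_ne_hi i i').symm,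
      pderiv_X_of_ne (fun h => hi' (lo_injective h))]
    simp
  · intro h
    exact absurd (Finset.mem_univ _) h

theorem pderiv_hi (i : Fin m) : pderiv (hi m i) (VanCyc.quadPoly (stdT A m)) = X (lo m i) := by
  rw [quadPoly_stdT, map_sum, Finset.sum_eq_single i]
  · rw [Derivation.leibniz, pderiv_X_self, pderiv_X_of_ne (lo_ne_hi i i)]
    simp
  · intro i' _ hi'
    rw [Derivation.leibniz, pderiv_X_of_ne (lo_ne_hi i' i),
      pderiv_X_of_ne (fun h => hi' (hi_injective h))]
    simp
  · intro h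
    exact absurd (Finset.mem_univ _) h

theorem pderiv_rename {τ σ : Type} (e : τ → σ) (he : Function.Injective e) (j : τ) (p : MvPolynomial τ A) :
    pderiv (e j) (rename e p) = rename e (pderiv j p) := by
  induction p using MvPolynomial.induction_on with
  | C a => simp
  | add p q hp hq => simp [hp, hq]
  | mul_X p i hp =>
    rw [map_mul, Derivation.leibniz, Derivation.leibniz, hp, rename_X]
    by_cases h : i = j
    · subst h
      rw [pderiv_X_self, pderiv_X_self]
      simp
    · rw [pderiv_X_of_ne h, pderiv_X_of_ne (fun h' => h (he h'))]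
      simp

theorem pderiv_rename_of_notMem {τ σ : Type} (e : τ → σ) (i : σ) (hi : ∀ j, e j ≠ i) (p : MvPolynomial τ A) :
    pderiv i (rename e p) = 0 := by
  induction p using MvPolynomial.induction_on with
  | C a => simp
  | add p q hp hq => simp [hp, hq]
  | mul_X p j hp =>
    rw [map_mul, Derivation.leibniz, hp, rename_X, pderiv_X_of_ne (hi j)]
    simp

theorem isHomogeneous_quadPoly : (VanCyc.quadPoly (stdT A m)).IsHomogeneous 2 := by
  rw [quadPoly_stdT]
  exact IsHomogeneous.sum _ _ _ fun i _ => (isHomogeneous_X A _).mul (isHomogeneous_X A _)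

theorem eval₂Hom_quadPoly {B : Type u} [CommRing B] (φ : A →+* B) (v : Fin (2 * m) → B) :
    eval₂Hom φ v (VanCyc.quadPoly (stdT A m)) = ∑ i, v (lo m i) * v (hi m i) := by
  rw [quadPoly_stdT, map_sum]
  refine Finset.sum_congr rfl fun i _ => ?_
  rw [map_mul, eval₂Hom_X', eval₂Hom_X']

end poly

section odd

variable {R : Type u} [CommRing R] [IsDomain R] [IsDiscreteValuationRing R] (m : ℕ) (b : R)

/-- The equation. -/
noncomputable abbrev FO : MvPolynomial (Fin (2 * m)) R := VanCyc.quadPoly (stdT R m) - C b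

theorem ev_FO (hb : b ∈ IsLocalRing.maximalIdeal R) :
    eval₂Hom (toKK R) (fun _ : Fin (2 * m) => (0 : KK R)) (FO m b) = 0 := by
  have h : toKK R b = 0 := by
    have : b ∈ RingHom.ker (toKK R) := by rwa [ker_toKK]
    exact this
  rw [map_sub, eval₂Hom_quadPoly, eval₂Hom_C, h]
  simp

theorem str_eq_closedPoint {B : Type u} [CommRing B] [Algebra R B] (y : Spec (CommRingCat.of B)) (c : R)
    (hc : c ≠ 0) (hy : algebraMap R B c ∈ PrimeSpectrum.asIdeal y) :
    Spec.map (CommRingCat.ofHom (algebraMap R B)) y = IsLocalRing.closedPoint R := by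
  apply PrimeSpectrum.ext
  have h1 : (PrimeSpectrum.asIdeal (Spec.map (CommRingCat.ofHom (algebraMap R B)) y)).IsPrime :=
    PrimeSpectrum.isPrime _
  have h2 : c ∈ PrimeSpectrum.asIdeal (Spec.map (CommRingCat.ofHom (algebraMap R B)) y) := hy
  have h3 : PrimeSpectrum.asIdeal (Spec.map (CommRingCat.ofHom (algebraMap R B)) y) ≠ ⊥ := by
    intro h
    rw [h, Ideal.mem_bot] at h2
    exact hc h2
  exact IsLocalRing.eq_maximalIdeal (h1.isMaximal h3)

theorem odd_exists_pderiv (hb0 : b ≠ 0) (hb : b ∈ IsLocalRing.maximalIdeal R)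
    (y : Spec (CommRingCat.of (MvPolynomial (Fin (2 * m)) R ⧸ Ideal.span {FO m b})))
    (hy : y ≠ x0 (FO m b) (fun _ => 0) (ev_FO m b hb)) :
    ∃ i, Ideal.Quotient.mk (Ideal.span {FO m b}) (pderiv i (FO m b)) ∉ PrimeSpectrum.asIdeal y := by
  by_contra hc
  simp only [not_exists, not_not] at hc
  apply hy
  have hX (j : Fin (2 * m)) : Ideal.Quotient.mk (Ideal.span {FO m b}) (X j) ∈ PrimeSpectrum.asIdeal y := by
    rcases eq_lo_or_hi j with ⟨i, rfl⟩ | ⟨i, rfl⟩
    · have h := hc (hi m i)
      rwa [map_sub, pderiv_hi, pderiv_C, sub_zero] at h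
    · have h := hc (lo m i)
      rwa [map_sub, pderiv_lo, pderiv_C, sub_zero] at h
  have hbm : algebraMap R (MvPolynomial (Fin (2 * m)) R ⧸ Ideal.span {FO m b}) b ∈
      PrimeSpectrum.asIdeal y := by
    have h1 : algebraMap R (MvPolynomial (Fin (2 * m)) R ⧸ Ideal.span {FO m b}) b =
        ∑ i : Fin m, Ideal.Quotient.mk (Ideal.span {FO m b}) (X (lo m i)) *
          Ideal.Quotient.mk (Ideal.span {FO m b}) (X (hi m i)) := by
      have h2 : Ideal.Quotient.mk (Ideal.span {FO m b}) (FO m b) = 0 :=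
        Ideal.Quotient.eq_zero_iff_mem.2 (Ideal.mem_span_singleton_self _)
      rw [map_sub, sub_eq_zero, quadPoly_stdT, map_sum] at h2
      refine h2.symm.trans ?_
      exact Finset.sum_congr rfl fun i _ => map_mul _ _ _
    rw [h1]
    exact sum_mem fun i _ => Ideal.mul_mem_right _ _ (hX _)
  have hstr := str_eq_closedPoint y b hb0 hbm
  refine eq_x0 _ _ _ y hstr fun L _ χ ℓ h1 h2 i => ?_
  rw [h2 _ (hX i), map_zero]

/-- The equation of the geometric closed fibre. -/
theorem trans_FO (hb : b ∈ IsLocalRing.maximalIdeal R) :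
    eval₂Hom ((C : KK R →+* MvPolynomial (Fin (2 * m)) (KK R)).comp (toKK R))
      (fun i => X i + C ((fun _ => 0 : Fin (2 * m) → KK R) i)) (FO m b) = VanCyc.quadPoly (stdT (KK R) m) := by
  have h : toKK R b = 0 := by
    have : b ∈ RingHom.ker (toKK R) := by rwa [ker_toKK]
    exact this
  rw [map_sub, eval₂Hom_quadPoly, eval₂Hom_C, RingHom.comp_apply, h, map_zero, sub_zero, quadPoly_stdT]
  simp

end odd

section even

variable {R : Type u} [CommRing R] [IsDomain R] [IsDiscreteValuationRing R] (m : ℕ) (b c : R)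

/-- The equation. -/
noncomputable abbrev FE : MvPolynomial (Fin (2 * m + 1)) R := VanCyc.degQuadPoly R (stdT R m) b c

theorem eval₂Hom_degQuadPoly {A B : Type u} [CommRing A] [IsLocalRing A] [CommRing B] (φ : A →+* B) (b c : A)
    (v : Fin (2 * m + 1) → B) :
    eval₂Hom φ v (VanCyc.degQuadPoly A (stdT A m) b c) =
      v 0 ^ 2 + φ b * v 0 + φ c + ∑ i, v (lo m i).succ * v (hi m i).succ := by
  rw [VanCyc.degQuadPoly, map_add, map_add, map_add, map_pow, map_mul, eval₂Hom_X', eval₂Hom_C,
    eval₂Hom_C, quadPoly_stdT, map_sum, map_sum]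
  congr 1
  refine Finset.sum_congr rfl fun i _ => ?_
  rw [map_mul, rename_X, rename_X, map_mul, eval₂Hom_X', eval₂Hom_X']

/-- The coordinates of the singular point. -/
noncomputable def coords (a : KK R) : Fin (2 * m + 1) → KK R := Fin.cases a fun _ => 0

omit [IsDomain R] [IsDiscreteValuationRing R] in
variable (R) in
theorem exists_root [IsLocalRing R] : ∃ a : KK R, a ^ 2 + toKK R b * a + toKK R c = 0 := by
  obtain ⟨a, ha⟩ := IsAlgClosed.exists_root
    (Polynomial.X ^ 2 + Polynomial.C (toKK R b) * Polynomial.X + Polynomial.C (toKK R c) :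
      Polynomial (KK R)) (by
      have : (Polynomial.X ^ 2 + Polynomial.C (toKK R b) * Polynomial.X + Polynomial.C (toKK R c) :
        Polynomial (KK R)).degree = 2 := by
        compute_degree!
      rw [this]
      decide)
  exact ⟨a, by simpa [Polynomial.IsRoot] using ha⟩

/-- The root. -/
noncomputable def root : KK R := (exists_root R b c).choose

theorem root_spec : (root b c : KK R) ^ 2 + toKK R b * root b c + toKK R c = 0 :=
  (exists_root R b c).choose_spec

theorem two_root (hΔ : b ^ 2 - 4 * c ∈ IsLocalRing.maximalIdeal R) :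
    2 * (root b c : KK R) + toKK R b = 0 := by
  have h : toKK R (b ^ 2 - 4 * c) = 0 := by
    have : b ^ 2 - 4 * c ∈ RingHom.ker (toKK R) := by rwa [ker_toKK]
    exact this
  rw [map_sub, map_pow, map_mul] at h
  have h4 : toKK R 4 = 4 := map_ofNat (toKK R) 4
  rw [h4] at h
  have h2 : (2 * (root b c : KK R) + toKK R b) ^ 2 = 0 := by
    linear_combination 4 * root_spec (R := R) b c + h
  exact pow_eq_zero_iff (two_ne_zero) |>.1 h2

theorem ev_FE : eval₂Hom (toKK R) (coords m (root b c)) (FE m b c) = 0 := by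
  rw [eval₂Hom_degQuadPoly]
  have h : ∀ j : Fin (2 * m), coords m (root b c : KK R) j.succ = 0 := fun j => rfl
  have h0 : coords m (root b c : KK R) 0 = root b c := rfl
  simp only [h, h0, mul_zero, Finset.sum_const_zero, add_zero]
  exact root_spec b c

omit [IsDomain R] [IsDiscreteValuationRing R] in
theorem pderiv_FE_zero [IsLocalRing R] : pderiv 0 (VanCyc.degQuadPoly R (stdT R m) b c) = 2 * X 0 + C b := by
  rw [VanCyc.degQuadPoly, map_add, map_add, map_add,
    pderiv_rename_of_notMem _ _ _ (fun j => Fin.succ_ne_zero j), Derivation.leibniz_pow,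
    Derivation.leibniz, pderiv_X_self, pderiv_C, pderiv_C]
  simp

omit [IsDomain R] [IsDiscreteValuationRing R] in
theorem pderiv_FE_succ [IsLocalRing R] (j : Fin (2 * m)) : pderiv j.succ (VanCyc.degQuadPoly R (stdT R m) b c) =
    rename Fin.succ (pderiv j (VanCyc.quadPoly (stdT R m))) := by
  rw [VanCyc.degQuadPoly, map_add, map_add, map_add, pderiv_rename _ _ (Fin.succ_injective _),
    Derivation.leibniz_pow, Derivation.leibniz, pderiv_X_of_ne (Fin.succ_ne_zero j).symm, pderiv_C, pderiv_C]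
  simp

theorem even_exists_pderiv (hΔ0 : b ^ 2 - 4 * c ≠ 0) (hΔ : b ^ 2 - 4 * c ∈ IsLocalRing.maximalIdeal R)
    (y : Spec (CommRingCat.of (MvPolynomial (Fin (2 * m + 1)) R ⧸ Ideal.span {FE m b c})))
    (hy : y ≠ x0 (FE m b c) (coords m (root b c)) (ev_FE m b c)) :
    ∃ i, Ideal.Quotient.mk (Ideal.span {FE m b c}) (pderiv i (FE m b c)) ∉ PrimeSpectrum.asIdeal y := by
  by_contra hc
  simp only [not_exists, not_not] at hc
  apply hy
  have hX (j : Fin (2 * m)) : Ideal.Quotient.mk (Ideal.span {FE m b c}) (X j.succ) ∈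
      PrimeSpectrum.asIdeal y := by
    rcases eq_lo_or_hi j with ⟨i, rfl⟩ | ⟨i, rfl⟩
    · have h := hc (hi m i).succ
      rwa [pderiv_FE_succ, pderiv_hi, rename_X] at h
    · have h := hc (lo m i).succ
      rwa [pderiv_FE_succ, pderiv_lo, rename_X] at h
  have h0 := hc 0
  rw [pderiv_FE_zero] at h0
  have hF : Ideal.Quotient.mk (Ideal.span {FE m b c}) (X 0) ^ 2 +
      Ideal.Quotient.mk (Ideal.span {FE m b c}) (C b) * Ideal.Quotient.mk (Ideal.span {FE m b c}) (X 0) +
      Ideal.Quotient.mk (Ideal.span {FE m b c}) (C c) ∈ PrimeSpectrum.asIdeal y := by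
    have h2 : Ideal.Quotient.mk (Ideal.span {FE m b c}) (FE m b c) = 0 :=
      Ideal.Quotient.eq_zero_iff_mem.2 (Ideal.mem_span_singleton_self _)
    have h3 : Ideal.Quotient.mk (Ideal.span {FE m b c}) (X 0) ^ 2 +
      Ideal.Quotient.mk (Ideal.span {FE m b c}) (C b) * Ideal.Quotient.mk (Ideal.span {FE m b c}) (X 0) +
      Ideal.Quotient.mk (Ideal.span {FE m b c}) (C c) = - ∑ i : Fin m,
        Ideal.Quotient.mk (Ideal.span {FE m b c}) (X (lo m i).succ) *
          Ideal.Quotient.mk (Ideal.span {FE m b c}) (X (hi m i).succ) := by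
      rw [eq_neg_iff_add_eq_zero, ← h2, FE, VanCyc.degQuadPoly, quadPoly_stdT]
      simp only [map_add, map_sum, map_mul, map_pow, rename_X]
    rw [h3]
    exact neg_mem (sum_mem fun i _ => Ideal.mul_mem_right _ _ (hX _))
  have hΔm : algebraMap R (MvPolynomial (Fin (2 * m + 1)) R ⧸ Ideal.span {FE m b c}) (b ^ 2 - 4 * c) ∈
      PrimeSpectrum.asIdeal y := by
    have h1 : algebraMap R (MvPolynomial (Fin (2 * m + 1)) R ⧸ Ideal.span {FE m b c}) (b ^ 2 - 4 * c) =
        Ideal.Quotient.mk (Ideal.span {FE m b c}) (2 * X 0 + C b) *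
          Ideal.Quotient.mk (Ideal.span {FE m b c}) (2 * X 0 + C b) +
        (- 4) * (Ideal.Quotient.mk (Ideal.span {FE m b c}) (X 0) ^ 2 +
      Ideal.Quotient.mk (Ideal.span {FE m b c}) (C b) * Ideal.Quotient.mk (Ideal.span {FE m b c}) (X 0) +
      Ideal.Quotient.mk (Ideal.span {FE m b c}) (C c)) := by
      have h2 : algebraMap R (MvPolynomial (Fin (2 * m + 1)) R ⧸ Ideal.span {FE m b c}) (b ^ 2 - 4 * c) =
        Ideal.Quotient.mk (Ideal.span {FE m b c}) (C (b ^ 2 - 4 * c)) := rfl
      rw [h2]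
      simp only [map_sub, map_pow, map_mul, map_add, map_ofNat]
      ring
    rw [h1]
    exact add_mem (Ideal.mul_mem_right _ _ h0) (Ideal.mul_mem_left _ _ hF)
  have hstr := str_eq_closedPoint y _ hΔ0 hΔm
  refine eq_x0 _ _ _ y hstr fun L _ χ ℓ h1 h2 i => ?_
  refine Fin.cases ?_ (fun j => ?_) i
  · have e1 := h2 _ h0
    have e2 := h2 _ hF
    have e3 := congrArg ℓ (root_spec (R := R) b c)
    have e4 := congrArg ℓ (two_root (R := R) b c hΔ)
    have eb : χ (Ideal.Quotient.mk (Ideal.span {FE m b c}) (C b)) = ℓ (toKK R b) := RingHom.congr_fun h1 b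
    have ec : χ (Ideal.Quotient.mk (Ideal.span {FE m b c}) (C c)) = ℓ (toKK R c) := RingHom.congr_fun h1 c
    rw [map_add, map_mul, map_add, map_mul, map_ofNat, map_ofNat, eb] at e1
    rw [map_add, map_add, map_pow, map_mul, eb, ec] at e2
    rw [map_add, map_add, map_pow, map_mul, map_zero] at e3
    rw [map_add, map_mul, map_ofNat, map_zero] at e4
    change _ = ℓ (root b c)
    have key : (χ (Ideal.Quotient.mk (Ideal.span {FE m b c}) (X 0)) - ℓ (root b c)) ^ 2 = 0 := by
      linear_combination (-1) * e2 + (χ (Ideal.Quotient.mk (Ideal.span {FE m b c}) (X 0)) -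
        ℓ (root b c)) * e1 + e3
    exact sub_eq_zero.1 (pow_eq_zero_iff (two_ne_zero) |>.1 key)
  · rw [h2 _ (hX j)]
    exact (map_zero ℓ).symm

/-- The equation of the geometric closed fibre. -/
noncomputable def GE (K : Type u) [CommRing K] (m : ℕ) : MvPolynomial (Fin (2 * m + 1)) K :=
  X 0 ^ 2 + rename Fin.succ (VanCyc.quadPoly (stdT K m))

theorem isHomogeneous_GE (K : Type u) [CommRing K] : (GE K m).IsHomogeneous 2 := by
  refine IsHomogeneous.add ?_ ((isHomogeneous_quadPoly K m).rename_isHomogeneous)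
  simpa using (isHomogeneous_X K (0 : Fin (2 * m + 1))).pow 2

theorem trans_FE (hΔ : b ^ 2 - 4 * c ∈ IsLocalRing.maximalIdeal R) :
    eval₂Hom ((C : KK R →+* MvPolynomial (Fin (2 * m + 1)) (KK R)).comp (toKK R))
      (fun i => X i + C (coords m (root b c) i)) (FE m b c) = GE (KK R) m := by
  rw [eval₂Hom_degQuadPoly]
  have h : ∀ j : Fin (2 * m), coords m (root b c : KK R) j.succ = 0 := fun j => rfl
  have h0 : coords m (root b c : KK R) 0 = root b c := rfl
  simp only [h, h0, map_zero, add_zero, RingHom.comp_apply]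
  have e1 := congrArg (C : KK R →+* MvPolynomial (Fin (2 * m + 1)) (KK R)) (root_spec (R := R) b c)
  have e2 := congrArg (C : KK R →+* MvPolynomial (Fin (2 * m + 1)) (KK R)) (two_root (R := R) b c hΔ)
  rw [map_add, map_add, map_pow, map_mul, map_zero] at e1
  rw [map_add, map_mul, map_ofNat, map_zero] at e2
  rw [GE, quadPoly_stdT, map_sum]
  simp only [map_mul, rename_X]
  linear_combination e1 + X 0 * e2

end even

end Groth.Agent.Vancyc.H680.ModelAlg
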