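import Groth.Agent.Vancyc.H680.Punctual
import Groth.Agent.Etcore.ShriekBasic

/-!
# Good sheaves: punctual sheaves, comparison on the complement of a point, constant sheaves

`ξ` a geometric point of `Y` over a closed point with separably closed residue field, `j : U ⟶ Y` an open
immersion containing all other points.
* `good_of_supp`: sheaves supported at `ξ` are good;
* `good_congr`: goodness only depends on the restriction to `U`.
-/

set_option autoImplicit false
universe u
open CategoryTheory CategoryTheory.Limits AlgebraicGeometry Opposite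

namespace Groth.Agent.Vancyc.H680.OpenGood

open Groth.Agent.EtpbcA.Artin Germ GoodAbs

theorem pull_exact {X Y : Scheme.{u}} (f : X ⟶ Y) : PreservesFiniteLimits (EtCoh.pull f) :=
  EtpbcB.HRel.pull_exact f

section point

variable {Y : Scheme.{u}} {Ω : Type u} [Field Ω] [IsSepClosed Ω] (ξ : Spec (CommRingCat.of Ω) ⟶ Y)
  (hcl : IsClosed ({ξ default} : Set Y)) (hsc : IsSepClosed (Y.residueField (ξ default)))

include hcl hsc in
theorem good_of_supp (F : EtCoh.Ab Y) (hF : EtPBC.supp F ⊆ {ξ default}) : Good (germNat ξ) F :=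
  (good_iff ξ F).2 ⟨fun q hq => Punctual.van ξ hcl F hF q hq, Punctual.germ_bijective ξ hcl hsc F hF⟩

variable {U : Scheme.{u}} (j : U ⟶ Y) [IsOpenImmersion j]
  (hU : ∀ y : Y, y ≠ ξ default → y ∈ Set.range j)

omit [IsOpenImmersion j] [IsSepClosed Ω] in
include hU in
theorem supp_subset_of_pull (F : EtCoh.Ab Y) (h : IsZero ((EtCoh.pull j).obj F)) :
    EtPBC.supp F ⊆ {ξ default} := by
  intro y hy
  by_contra hne
  obtain ⟨x, rfl⟩ := hU y hne
  have h1 := supp_eq_empty_of_isZero h x
  rw [supp_pull] at h1
  exact h1 hy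

omit [IsSepClosed Ω] in
theorem isIso_pull_unit (F : EtCoh.Ab Y) : IsIso ((EtCoh.pull j).map ((EtCoh.pullPushAdj j).unit.app F)) := by
  have h1 : IsIso ((EtCoh.pullPushAdj j).counit.app ((EtCoh.pull j).obj F)) := inferInstance
  exact isIso_of_comp_hom_eq_id _ ((EtCoh.pullPushAdj j).left_triangle_components F)

include hcl hsc hU in
theorem good_unit_iff (F : EtCoh.Ab Y) :
    Good (germNat ξ) F ↔ Good (germNat ξ) ((EtCoh.push j).obj ((EtCoh.pull j).obj F)) := by
  have := pull_exact j
  have hiso := isIso_pull_unit j F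
  have hk : Good (germNat ξ) (kernel ((EtCoh.pullPushAdj j).unit.app F)) := by
    refine good_of_supp ξ hcl hsc _ (supp_subset_of_pull ξ j hU _ ?_)
    refine IsZero.of_iso ?_ (PreservesKernel.iso (EtCoh.pull j) ((EtCoh.pullPushAdj j).unit.app F))
    exact isZero_kernel_of_mono _
  have hc : Good (germNat ξ) (cokernel ((EtCoh.pullPushAdj j).unit.app F)) := by
    refine good_of_supp ξ hcl hsc _ (supp_subset_of_pull ξ j hU _ ?_)
    refine IsZero.of_iso ?_ (PreservesCokernel.iso (EtCoh.pull j) ((EtCoh.pullPushAdj j).unit.app F))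
    exact isZero_cokernel_of_epi _
  exact ⟨fun h => Good.tgt _ _ hk hc h, fun h => Good.src _ _ hk hc h⟩

include hcl hsc hU in
/-- Goodness only depends on the restriction to the complement of the point. -/
theorem good_congr {F G : EtCoh.Ab Y} (e : (EtCoh.pull j).obj F ≅ (EtCoh.pull j).obj G)
    (h : Good (germNat ξ) F) : Good (germNat ξ) G :=
  (good_unit_iff ξ hcl hsc j hU G).2
    (Good.of_iso ((EtCoh.push j).mapIso e) ((good_unit_iff ξ hcl hsc j hU F).1 h))

end point

end Groth.Agent.Vancyc.H680.OpenGood
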