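import Groth.Agent.CurvesA.Punctual
import Groth.Agent.Vancyc.H680.Germ

/-!
# Étale sheaves supported at one closed point with separably closed residue field

`ξ` a geometric point of `X` whose image is a closed point with separably closed residue field, `F` an
abelian étale sheaf with `supp F ⊆ {ξ}`:
* `isIso_unit`: `F ≅ sky_ξ (F_ξ)`;
* `germ_bijective`: `Γ(X, F) → F_ξ` is bijective;
* `van`: `H^n(X, F) = 0` for `n > 0`.
-/

set_option autoImplicit false
universe u
open CategoryTheory CategoryTheory.Limits AlgebraicGeometry Opposite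

namespace Groth.Agent.Vancyc.H680.Punctual

open Groth.Agent.CurvesA.SkyPoint Groth.Agent.CurvesA.SkyAcyclic Groth.Agent.CurvesA.Punctual
  Groth.Agent.EtpbcA.Artin Germ

variable {X : Scheme.{u}} {Ω : Type u} [Field Ω] [IsSepClosed Ω] (ξ : Spec (CommRingCat.of Ω) ⟶ X)
  (hcl : IsClosed ({ξ default} : Set X)) (hsc : IsSepClosed (X.residueField (ξ default)))

/-- The unit `F ⟶ sky_ξ (F_ξ)`. -/
noncomputable abbrev unitSky (F : EtCoh.Ab X) : F ⟶ (sky ξ).obj ((EtCoh.stalk ξ).obj F) :=
  (skyAdj ξ).unit.app F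

theorem unit_counit (F : EtCoh.Ab X) : (EtCoh.stalk ξ).map (unitSky ξ F) ≫
    (skyAdj ξ).counit.app ((EtCoh.stalk ξ).obj F) = 𝟙 _ :=
  (skyAdj ξ).left_triangle_components F

include hcl hsc

theorem epi_unit (F : EtCoh.Ab X) : Epi (unitSky ξ F) := by
  have htri := unit_counit ξ F
  have hinj := counit_injective ξ hcl hsc ((EtCoh.stalk ξ).obj F)
  exact Etcore.Stalks.epi_of_stalks _ fun y => by
    by_cases hy : ξ default = y
    · refine ⟨Ω, inferInstance, inferInstance, ξ, hy, fun p => ?_⟩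
      refine ⟨(skyAdj ξ).counit.app _ p, ?_⟩
      apply hinj
      exact ConcreteCategory.congr_hom htri ((skyAdj ξ).counit.app _ p)
    · obtain ⟨Ω', _, _, ζ, hζ⟩ := Etcore.Stalks.exists_geom y
      refine ⟨Ω', inferInstance, inferInstance, ζ, hζ, fun p => ⟨0, ?_⟩⟩
      have hz := isZero_stalk_sky ξ hcl ζ (by rw [hζ]; exact fun h => hy h.symm)
        ((EtCoh.stalk ξ).obj F)
      have := AddCommGrpCat.subsingleton_of_isZero hz
      exact Subsingleton.elim _ _

omit hcl hsc in
theorem mono_unit (F : EtCoh.Ab X) (hF : EtPBC.supp F ⊆ {ξ default}) : Mono (unitSky ξ F) := by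
  refine Etcore.Stalks.mono_of_stalks _ fun y => ?_
  by_cases hy : ξ default = y
  · refine ⟨Ω, inferInstance, inferInstance, ξ, hy, ?_⟩
    intro a b hab
    have h := unit_counit ξ F
    have h1 := ConcreteCategory.congr_hom h a
    have h2 := ConcreteCategory.congr_hom h b
    rw [ConcreteCategory.comp_apply] at h1 h2
    have e1 : ((skyAdj ξ).counit.app ((EtCoh.stalk ξ).obj F)) ((EtCoh.stalk ξ).map (unitSky ξ F) a) = a := h1
    have e2 : ((skyAdj ξ).counit.app ((EtCoh.stalk ξ).obj F)) ((EtCoh.stalk ξ).map (unitSky ξ F) b) = b := h2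
    rw [← e1, ← e2]
    exact congrArg _ hab
  · obtain ⟨Ω', _, _, ζ, hζ⟩ := Etcore.Stalks.exists_geom y
    refine ⟨Ω', inferInstance, inferInstance, ζ, hζ, fun a b _ => ?_⟩
    have hz : IsZero ((EtCoh.stalk ζ).obj F) :=
      isZero_stalk_of_not_mem (fun h => hy (hF h).symm) ζ hζ
    have := AddCommGrpCat.subsingleton_of_isZero hz
    exact Subsingleton.elim _ _

theorem isIso_unit (F : EtCoh.Ab X) (hF : EtPBC.supp F ⊆ {ξ default}) : IsIso (unitSky ξ F) := by
  have h1 := epi_unit ξ hcl hsc F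
  have h2 := mono_unit ξ F hF
  exact isIso_of_mono_of_epi _

omit hsc [IsSepClosed Ω] in
theorem van [hsc : IsSepClosed (X.residueField (ξ default))] (F : EtCoh.Ab X)
    (hF : EtPBC.supp F ⊆ {ξ default}) (n : ℕ) (hn : 0 < n) : Subsingleton (EtCoh.H X F n) := by
  refine van_of_finite_supp {ξ default} ?_ ?_ F ?_ n hn
  · intro x hx
    rw [Finset.mem_singleton] at hx
    rw [hx]
    exact hcl
  · intro x hx
    rw [Finset.mem_singleton] at hx
    rw [hx]
    exact hsc
  · simpa using hF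

/-- Global sections of a punctual sheaf are its stalk. -/
theorem germ_bijective (F : EtCoh.Ab X) (hF : EtPBC.supp F ⊆ {ξ default}) :
    Function.Bijective (Etcore.StalkSec.germ ξ F (EtCoh.top X) (eltTop ξ)) := by
  have hη := isIso_unit ξ hcl hsc F hF
  have htri := unit_counit ξ F
  have key : ∀ s : EtCoh.sect F (EtCoh.top X), Etcore.StalkSec.germ ξ F (EtCoh.top X) (eltTop ξ) s =
      comp ξ ((EtCoh.stalk ξ).obj F) (eltTop ξ) ((unitSky ξ F).hom.app (op (EtCoh.top X)) s) := by
    intro s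
    have h1 := ConcreteCategory.congr_hom htri (Etcore.StalkSec.germ ξ F (EtCoh.top X) (eltTop ξ) s)
    rw [ConcreteCategory.comp_apply] at h1
    have h2 : (EtCoh.stalk ξ).map (unitSky ξ F) (Etcore.StalkSec.germ ξ F (EtCoh.top X) (eltTop ξ) s) =
        Etcore.Stalks.germ ξ _ (eltTop ξ) ((unitSky ξ F).hom.app (op (EtCoh.top X)) s) :=
      Etcore.Stalks.germ_map ξ (unitSky ξ F) (eltTop ξ) s
    have h3 := counit_germ ξ ((EtCoh.stalk ξ).obj F) (eltTop ξ)
      ((unitSky ξ F).hom.app (op (EtCoh.top X)) s)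
    refine (h1.symm.trans ?_)
    refine Eq.trans ?_ h3
    exact congrArg _ h2
  have hiso : IsIso ((unitSky ξ F).hom.app (op (EtCoh.top X))) := by
    have : IsIso (unitSky ξ F).hom :=
      inferInstanceAs (IsIso ((sheafToPresheaf _ _).map (unitSky ξ F)))
    infer_instance
  have hb := (ConcreteCategory.isIso_iff_bijective ((unitSky ξ F).hom.app (op (EtCoh.top X)))).1 hiso
  constructor
  · intro s t hst
    rw [key, key] at hst
    apply hb.1
    refine sky_ext ξ _ _ _ fun x => ?_
    rw [elt_unique ξ x]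
    exact hst
  · intro p
    obtain ⟨s, hs⟩ := hb.2 (mkSec ξ ((EtCoh.stalk ξ).obj F) (EtCoh.top X) (fun _ => p))
    refine ⟨s, ?_⟩
    rw [key]
    have : comp ξ ((EtCoh.stalk ξ).obj F) (eltTop ξ)
        (mkSec ξ ((EtCoh.stalk ξ).obj F) (EtCoh.top X) (fun _ => p)) = p := comp_mkSec ξ _ _ _ _
    exact (congrArg _ hs).trans this

end Groth.Agent.Vancyc.H680.Punctual
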