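import Groth.Agent.S3095
import Groth.Agent.EtpbcA.CdT1
import Groth.Agent.EtpbcA.ArtinSupp
import Groth.Agent.EtpbcA.SectCoh
import Groth.Agent.EtpbcB.SepClosedPoint
import Groth.Agent.CurvesA.ClosedPtSep
import Groth.Agent.Vancyc.H680.Punctual

/-!
# Proper schemes over a strictly henselian local ring: vanishing from the closed fibre

`f : X ⟶ Spec A` proper, `A` henselian local, `G` a torsion abelian étale sheaf on `X`.
* `H_subsingleton`: if `supp G` does not meet the closed fibre then `H^q(X, G) = 0` for all `q`;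
* `H_subsingleton_of_punctual`: if `supp G` meets the closed fibre in at most one closed point with
  separably closed residue field then `H^q(X, G) = 0` for `q > 0`;
* `not_mem_supp_of_H_zero`: in that case, `H^0(X, G) = 0` implies that `supp G` misses the closed fibre.
-/

set_option autoImplicit false
universe u
open CategoryTheory CategoryTheory.Limits AlgebraicGeometry Opposite

namespace Groth.Agent.Vancyc.H680.PbcVan

open Groth.Agent.EtpbcA.Artin Groth.Agent.EtpbcA.CdEtLeray

variable (A : Type u) [CommRing A] [HenselianLocalRing A] {X : Scheme.{u}}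
  (f : X ⟶ Spec (CommRingCat.of A)) [IsProper f]

/-- The inclusion of the closed fibre. -/
noncomputable abbrev icl : pullback f (Spec.map (CommRingCat.ofHom (IsLocalRing.residue A))) ⟶ X :=
  pullback.fst f (Spec.map (CommRingCat.ofHom (IsLocalRing.residue A)))

theorem residue_apply (z : Spec (CommRingCat.of (IsLocalRing.ResidueField A))) :
    Spec.map (CommRingCat.ofHom (IsLocalRing.residue A)) z = IsLocalRing.closedPoint A := by
  have h : z = (IsLocalRing.closedPoint (IsLocalRing.ResidueField A) : PrimeSpectrum _) :=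
    Subsingleton.elim (α := Spec (CommRingCat.of (IsLocalRing.ResidueField A))) _ _
  rw [h]
  exact IsLocalRing.comap_closedPoint (IsLocalRing.residue A)

omit [IsProper f] in
theorem f_icl (x : ↥(pullback f (Spec.map (CommRingCat.ofHom (IsLocalRing.residue A))))) :
    f (icl A f x) = IsLocalRing.closedPoint A := by
  have h := congrArg (fun (k : pullback f (Spec.map (CommRingCat.ofHom (IsLocalRing.residue A))) ⟶ _) => k x)
    (pullback.condition (f := f) (g := Spec.map (CommRingCat.ofHom (IsLocalRing.residue A))))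
  have h' : f (icl A f x) = Spec.map (CommRingCat.ofHom (IsLocalRing.residue A))
    (pullback.snd f (Spec.map (CommRingCat.ofHom (IsLocalRing.residue A))) x) := h
  rw [h', residue_apply]

theorem H_subsingleton (G : EtCoh.Ab X) (hG : EtCoh.IsTorsion G)
    (hs : ∀ x : X, f x = IsLocalRing.closedPoint A → x ∉ EtPBC.supp G) (q : ℕ) :
    Subsingleton (EtCoh.H X G q) := by
  have h0 : IsZero ((EtCoh.pull (icl A f)).obj G) := by
    refine isZero_of_forall _ fun x => ?_
    rw [supp_pull]
    exact hs _ (f_icl A f x)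
  have h1 : Subsingleton (EtCoh.H _ ((EtCoh.pull (icl A f)).obj G) q) :=
    H_subsingleton_of_isZero h0 q
  exact (Groth.Agent.S3095.result A X f G hG q).1.subsingleton

/-- The closed fibre is a closed subscheme. -/
instance isClosedImmersion_icl : IsClosedImmersion (icl A f) := by
  have : IsClosedImmersion (Spec.map (CommRingCat.ofHom (IsLocalRing.residue A))) :=
    IsClosedImmersion.spec_of_surjective _ IsLocalRing.residue_surjective
  infer_instance


theorem sect_subsingleton {Y : Scheme.{u}} (F : EtCoh.Ab Y) (h : Subsingleton (EtCoh.H Y F 0)) :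
    Subsingleton (EtCoh.sect F (EtCoh.top Y)) := by
  have h1 : Subsingleton ((constantSheaf Y.smallEtaleTopology AddCommGrpCat.{u + 1}).obj
      (AddCommGrpCat.of (ULift ℤ)) ⟶ F) := Abelian.Ext.homEquiv₀.symm.injective.subsingleton
  exact (EtpbcA.SectCoh.homEquivTop F).symm.injective.subsingleton

theorem H_zero_subsingleton {Y : Scheme.{u}} (F : EtCoh.Ab Y)
    (h : Subsingleton (EtCoh.sect F (EtCoh.top Y))) : Subsingleton (EtCoh.H Y F 0) := by
  have h1 : Subsingleton ((constantSheaf Y.smallEtaleTopology AddCommGrpCat.{u + 1}).obj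
      (AddCommGrpCat.of (ULift ℤ)) ⟶ F) := (EtpbcA.SectCoh.homEquivTop F).injective.subsingleton
  exact Abelian.Ext.homEquiv₀.injective.subsingleton

/-- `H^0(Z, h_* F) = 0` if `H^0(Y, F) = 0`. -/
theorem H_zero_push_subsingleton {Y Z : Scheme.{u}} (h : Y ⟶ Z) (F : EtCoh.Ab Y)
    (hF : Subsingleton (EtCoh.H Y F 0)) : Subsingleton (EtCoh.H Z ((EtCoh.push h).obj F) 0) := by
  refine H_zero_subsingleton _ ?_
  have h1 := sect_subsingleton F hF
  have h2 : Subsingleton ((EtpbcB.SepClosedPoint.Γtop Y).obj F : AddCommGrpCat.{u + 1}) := h1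
  have e := ((EtpbcB.SepClosedPoint.gammaPush h).app F).addCommGroupIsoToAddEquiv
  exact e.injective.subsingleton

section punctual

variable [IsSepClosed (IsLocalRing.ResidueField A)] (G : EtCoh.Ab X) (hG : EtCoh.IsTorsion G)
  (x₀ : X) (hcl : IsClosed ({x₀} : Set X))
  (hs : ∀ x : X, f x = IsLocalRing.closedPoint A → x ≠ x₀ → x ∉ EtPBC.supp G)

omit [IsSepClosed (IsLocalRing.ResidueField A)] [IsProper f] in
include hs in
theorem supp_pull_subset (y₀ : ↥(pullback f (Spec.map (CommRingCat.ofHom (IsLocalRing.residue A)))))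
    (hy₀ : icl A f y₀ = x₀) : EtPBC.supp ((EtCoh.pull (icl A f)).obj G) ⊆ {y₀} := by
  intro y hy
  rw [supp_pull] at hy
  have h1 : icl A f y = x₀ := by
    by_contra h
    exact hs _ (f_icl A f y) h hy
  exact (IsClosedImmersion.isClosedEmbedding (icl A f)).injective (h1.trans hy₀.symm)

omit [IsProper f] [IsSepClosed (IsLocalRing.ResidueField A)] in
theorem exists_icl (x : X) (hx : f x = IsLocalRing.closedPoint A) : ∃ y, icl A f y = x := by
  obtain ⟨y, hy, -⟩ := Scheme.Pullback.exists_preimage_pullback (f := f)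
    (g := Spec.map (CommRingCat.ofHom (IsLocalRing.residue A))) x
    (IsLocalRing.closedPoint (IsLocalRing.ResidueField A)) (by rw [hx, residue_apply])
  exact ⟨y, hy⟩

include hG hcl hs

theorem H_subsingleton_of_punctual (q : ℕ) (hq : 0 < q) : Subsingleton (EtCoh.H X G q) := by
  by_cases hx : f x₀ = IsLocalRing.closedPoint A
  · obtain ⟨y₀, hy₀⟩ := exists_icl A f x₀ hx
    have hcl' : IsClosed ({y₀} : Set _) := by
      have h : ({y₀} : Set _) = icl A f ⁻¹' {x₀} := by
        ext y
        constructor
        · rintro rfl; exact hy₀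
        · intro h
          exact (IsClosedImmersion.isClosedEmbedding (icl A f)).injective (Eq.trans h hy₀.symm)
      rw [h]
      exact hcl.preimage (icl A f).continuous
    obtain ⟨Ω, _, _, ξ, hξ⟩ := Etcore.Stalks.exists_geom y₀
    have hsc := CurvesA.ClosedPtSep.isSepClosed_residueField (pullback.snd f
      (Spec.map (CommRingCat.ofHom (IsLocalRing.residue A)))) y₀ hcl'
    have h1 : Subsingleton (EtCoh.H _ ((EtCoh.pull (icl A f)).obj G) q) := by
      subst hξ
      exact Punctual.van ξ hcl' _ (supp_pull_subset A f G x₀ hs _ hy₀) q hq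
    exact (Groth.Agent.S3095.result A X f G hG q).1.subsingleton
  · refine H_subsingleton A f G hG (fun x hx' => hs x hx' ?_) q
    rintro rfl
    exact hx hx'

theorem not_mem_supp_of_H_zero (hx : f x₀ = IsLocalRing.closedPoint A)
    (h0 : Subsingleton (EtCoh.H X G 0)) : x₀ ∉ EtPBC.supp G := by
  obtain ⟨y₀, hy₀⟩ := exists_icl A f x₀ hx
  have hcl' : IsClosed ({y₀} : Set _) := by
    have h : ({y₀} : Set _) = icl A f ⁻¹' {x₀} := by
      ext y
      constructor
      · rintro rfl; exact hy₀
      · intro h
        exact (IsClosedImmersion.isClosedEmbedding (icl A f)).injective (Eq.trans h hy₀.symm)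
    rw [h]
    exact hcl.preimage (icl A f).continuous
  obtain ⟨Ω, _, _, ξ, hξ⟩ := Etcore.Stalks.exists_geom y₀
  have hsc := CurvesA.ClosedPtSep.isSepClosed_residueField (pullback.snd f
    (Spec.map (CommRingCat.ofHom (IsLocalRing.residue A)))) y₀ hcl'
  have h1 : Subsingleton (EtCoh.H _ ((EtCoh.pull (icl A f)).obj G) 0) :=
    (Groth.Agent.S3095.result A X f G hG 0).2.subsingleton
  have h2 := sect_subsingleton _ h1
  subst hξ
  have h3 := Punctual.germ_bijective ξ hcl' hsc _ (supp_pull_subset A f G x₀ hs _ hy₀)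
  have h4 : Subsingleton ((EtCoh.stalk ξ).obj ((EtCoh.pull (icl A f)).obj G) : Type (u + 1)) :=
    h3.2.subsingleton
  have h5 : ξ default ∉ EtPBC.supp ((EtCoh.pull (icl A f)).obj G) := by
    rw [mem_supp_iff _ _ ξ ((range_eq_iff ξ _).2 rfl), not_not]
    exact AddCommGrpCat.isZero_of_subsingleton _
  rw [supp_pull] at h5
  rwa [← hy₀]

end punctual

end Groth.Agent.Vancyc.H680.PbcVan
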