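import Mathlib.AlgebraicGeometry.Morphisms.FiniteType
import Mathlib.AlgebraicGeometry.Morphisms.ClosedImmersion
import Mathlib.AlgebraicGeometry.ResidueField
import Mathlib.AlgebraicGeometry.Morphisms.Finite
import Mathlib.RingTheory.Jacobson.Ring
import Mathlib.FieldTheory.PurelyInseparable.Basic
import Mathlib.RingTheory.LocalRing.ResidueField.Basic

/-!
# Residue fields of closed points over the closed point of a local ring with separably closed residue field
-/

set_option autoImplicit false
universe u
open CategoryTheory CategoryTheory.Limits AlgebraicGeometry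

namespace Groth.Agent.Vancyc.H680.SepPoint

variable {R : Type u} [CommRing R] [IsLocalRing R] [IsSepClosed (IsLocalRing.ResidueField R)]
  {Y : Scheme.{u}} (f : Y ⟶ Spec (CommRingCat.of R)) [LocallyOfFiniteType f]

theorem isSepClosed_residueField (y : Y) (hy : IsClosed ({y} : Set Y))
    (hf : f y = IsLocalRing.closedPoint R) : IsSepClosed (Y.residueField y) := by
  have h1 : IsClosedImmersion (Y.fromSpecResidueField y) :=
    isClosed_singleton_iff_isClosedImmersion.1 hy
  have h2 : LocallyOfFiniteType (Y.fromSpecResidueField y ≫ f) := inferInstance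
  obtain ⟨φ, hφ⟩ := Spec.map_surjective (Y.fromSpecResidueField y ≫ f)
  rw [← hφ] at h2
  have h3 : φ.hom.FiniteType := (HasRingHomProperty.Spec_iff (P := @LocallyOfFiniteType)).1 h2
  have h4 : ∀ r ∈ IsLocalRing.maximalIdeal R, φ.hom r = 0 := by
    intro r hr
    have h5 : Spec.map φ (IsLocalRing.closedPoint (Y.residueField y)) = IsLocalRing.closedPoint R := by
      rw [hφ, Scheme.Hom.comp_apply]
      refine Eq.trans (congrArg f ?_) hf
      exact Y.fromSpecResidueField_apply y _
    have h6 := congrArg PrimeSpectrum.asIdeal h5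
    have h7 : r ∈ (IsLocalRing.closedPoint R).asIdeal := hr
    rw [← h6] at h7
    have h8 : φ.hom r ∈ IsLocalRing.maximalIdeal (Y.residueField y) := h7
    rwa [IsLocalRing.maximalIdeal_eq_bot, Ideal.mem_bot] at h8
  let ψ : IsLocalRing.ResidueField R →+* Y.residueField y :=
    Ideal.Quotient.lift (IsLocalRing.maximalIdeal R) φ.hom h4
  have h5 : ψ.comp (IsLocalRing.residue R) = φ.hom := RingHom.ext fun r => rfl
  have h6 : ψ.FiniteType := by
    rw [← h5] at h3
    exact RingHom.FiniteType.of_comp_finiteType h3
  algebraize [ψ]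
  have h7 : Module.Finite (IsLocalRing.ResidueField R) (Y.residueField y) :=
    finite_of_finite_type_of_isJacobsonRing _ _
  have h8 : Algebra.IsAlgebraic (IsLocalRing.ResidueField R) (Y.residueField y) :=
    Algebra.IsAlgebraic.of_finite _ _
  exact Algebra.IsAlgebraic.isSepClosed (F := IsLocalRing.ResidueField R)

end Groth.Agent.Vancyc.H680.SepPoint
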